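import Cfsg.Agent.BX.Frame.Fr3
set_option linter.all false
open scoped Cfsg.Agent.FastGrp

/-!
# The 3B-pure group `U` of order nine (helper9)

`U = ⟨y, u⟩`, `y = g wy1`, `u = bf u0`; the element `t = g wT` interchanges `y` and `u`.
-/

set_option autoImplicit false
set_option maxRecDepth 100000

namespace Cfsg.Agent.BX.N17

open Subgroup Cfsg.Agent.BX.Frame Cfsg.Agent.BX.Frame.Baer Cfsg.Agent.BX.Frame.Fr3 Cfsg.Agent.BMx.Fast
open Cfsg.Agent.H819.U33 (G g g_append cj g_cj)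
open Cfsg.Agent.H863.U33 (wy1)
open Cfsg.Agent.BabyM.Conc (Ltr)

/-- the Baer coordinates of `u` -/
def u0 : Fin 9 → ZMod 3 := ![0, 0, 0, 1, 0, 1, 0, 1, 0]

/-- the word of `u` -/
def wU : List Ltr :=
  [.z, .Z10, .Z9, .Z8, .Z7, .Z4, .Z3, .Z2, .X10, .X8, .X6, .X5, .X4, .X3, .X2, .y10, .y7, .y6, .y5, .y3, .y1, .p3,
  .hi, .p, .hi, .p8, .hi, .p8, .hi, .p3, .hi, .p2, .xii, .y2, .p5, .hi, .p8, .hi, .taui, .xii, .y1, .p, .xii, .p,
  .xii, .y1, .taui, .X0, .p9, .xii, .y6, .p, .hi, .xii, .y1, .p5, .taui, .xii, .p5, .xii, .y4, .y5, .p8, .xii, .y9,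
  .tau]

/-- the word of `t` -/
def wT : List Ltr :=
  [.z, .Z10, .Z9, .Z8, .Z7, .Z4, .Z1, .X10, .X9, .X8, .X7, .X6, .X5, .X4, .y9, .y8, .y4, .p9, .hi, .p10, .hi, .p10,
  .hi, .p4, .hi, .p7, .hi, .p5, .xii, .p10, .xii, .y1, .p8, .xii, .y2, .taui, .xii, .p, .xii, .hi, .y8, .xii, .y5,
  .taui, .xii, .p7, .xii, .p9, .y7, .y9, .xii, .y4, .y7, .tau, .xii, .p4, .xii, .y1, .p8, .xii, .y9, .tau, .xii, .hi,
  .xii, .y3]

theorem u_eq : g wU = bf D3 a3 u0 := by
  rw [← g_bfw]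
  exact eq_of_eqF (by decide +kernel)

theorem t_y : (g wT)⁻¹ * g wy1 * g wT = g wU := by
  rw [← g_cj]
  exact eq_of_eqF (by decide +kernel)

theorem t_u : (g wT)⁻¹ * g wU * g wT = g wy1 := by
  rw [← g_cj]
  exact eq_of_eqF (by decide +kernel)

/-- the group of order nine -/
noncomputable def UU : Subgroup G := closure {g wy1, g wU}

end Cfsg.Agent.BX.N17

private theorem eqs_bx9_n17base : _root_.True := by
  try have : _root_.True := by simp only [_root_.Cfsg.Agent.BX.N17.u0.eq_1]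
  try have : _root_.True := by simp only [_root_.Cfsg.Agent.BX.N17.wU.eq_1]
  try have : _root_.True := by simp only [_root_.Cfsg.Agent.BX.N17.wT.eq_1]
  try have : _root_.True := by simp only [_root_.Cfsg.Agent.BX.N17.UU.eq_1]
  exact _root_.True.intro
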