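import Cfsg.Agent.BX.N17.Main
set_option linter.all false
open scoped Cfsg.Agent.FastGrp

/-!
# The group `U` is determined up to conjugacy (helper9)

A subgroup `E` of order nine whose normaliser has order divisible by `3 ^ 13` is conjugate to `U`; so its normaliser is not
a maximal subgroup.
-/

set_option autoImplicit false
set_option Elab.async false
set_option maxRecDepth 100000

namespace Cfsg.Agent.BX.N17

open Subgroup Matrix Cfsg.Agent.BX.Cov Cfsg.Agent.BX.Frame Cfsg.Agent.BX.Frame.Baer Cfsg.Agent.BX.Frame.Fr3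
open Cfsg.Agent.BMx.Fast
open Cfsg.Agent.H819.U33 (G g)
open Cfsg.Agent.H863.U33 (wy1 tb)
open Cfsg.Agent.BabyM.Conc (Ltr)

attribute [local instance] fact3

/-! ### An element of order nine -/

/-- the word in the frame -/
def fN : List (Fin 18 × ℕ) := [(14, 1), (15, 1), (15, 1), (15, 1), (16, 1), (14, 1), (15, 1), (16, 1)]

/-- an element of order nine -/
def wN : List Ltr :=
  [.z, .Z10, .Z9, .Z8, .Z7, .Z6, .Z5, .Z0, .X10, .X8, .X5, .X4, .X3, .X2, .X1, .X0, .y10, .y9, .y5, .y4, .y3, .p10,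
  .hi, .p, .hi, .p, .hi, .p7, .hi, .p3, .hi, .p, .hi, .tau, .p8, .xii, .y1, .hi, .p6, .xii, .y7, .y8, .taui, .xii,
  .p5, .hi, .p10, .xii, .y6, .tau, .xii, .p2]

theorem n_eq : ev gen3 fN = g wN := by
  rw [← g_evw]
  exact eq_of_eqF (by decide +kernel)

theorem n_pow : g wN ^ 9 = 1 := by
  rw [← H819.U33.g_pw]
  exact (eq_of_eqF (w := []) (by decide +kernel)).trans H819.U33.g_nil

/-- the partial products -/
def YY : Fin 8 → Matrix (Fin 9) (Fin 9) (ZMod 3) := ![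
  !![1, 0, 0, 0, 2, 1, 0, 0, 0; 1, 2, 0, 0, 1, 0, 0, 0, 0; 0, 0, 2, 1, 0, 0, 0, 1, 0; 0, 0, 0, 1, 0, 0, 1, 2, 0; 0, 1, 0, 0, 2, 2, 0, 0, 0; 1, 1, 0, 0, 0, 1, 0, 0, 0; 0, 0, 2, 2, 0, 0, 2, 0, 0; 0, 0, 2, 0, 0, 0, 1, 1, 0; 0, 0, 0, 0, 0, 0, 0, 0, 1],
  !![0, 0, 2, 1, 0, 0, 0, 1, 0; 0, 0, 2, 0, 0, 0, 2, 2, 0; 2, 1, 0, 0, 2, 0, 0, 0, 0; 0, 2, 0, 0, 2, 2, 0, 0, 0; 1, 2, 0, 0, 2, 0, 0, 0, 0; 0, 2, 0, 0, 1, 1, 0, 0, 0; 0, 0, 1, 2, 0, 0, 0, 1, 0; 0, 0, 2, 0, 0, 0, 1, 1, 0; 0, 0, 0, 0, 0, 0, 0, 0, 1],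
  !![0, 0, 2, 0, 0, 0, 2, 2, 0; 0, 0, 1, 2, 0, 0, 0, 2, 0; 0, 1, 0, 0, 1, 1, 0, 0, 0; 2, 1, 0, 0, 2, 0, 0, 0, 0; 0, 2, 0, 0, 1, 1, 0, 0, 0; 2, 1, 0, 0, 1, 0, 0, 0, 0; 0, 0, 1, 0, 0, 0, 2, 2, 0; 0, 0, 1, 2, 0, 0, 0, 1, 0; 0, 0, 0, 0, 0, 0, 0, 0, 1],
  !![2, 2, 2, 0, 0, 2, 2, 2, 0; 0, 2, 1, 1, 1, 1, 2, 0, 0; 2, 0, 1, 2, 1, 2, 0, 1, 0; 2, 1, 0, 1, 2, 0, 2, 1, 0; 1, 0, 1, 2, 1, 2, 0, 2, 0; 2, 1, 0, 2, 1, 0, 2, 1, 0; 1, 1, 2, 0, 0, 2, 1, 1, 0; 0, 2, 2, 2, 2, 2, 2, 0, 0; 0, 0, 0, 0, 0, 0, 0, 0, 1],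
  !![2, 0, 1, 2, 1, 2, 0, 1, 0; 0, 2, 1, 1, 2, 2, 1, 0, 0; 0, 1, 2, 2, 2, 2, 1, 0, 0; 1, 0, 2, 1, 1, 2, 0, 1, 0; 0, 1, 1, 1, 2, 2, 2, 0, 0; 2, 0, 2, 1, 2, 1, 0, 1, 0; 1, 0, 1, 2, 2, 1, 0, 1, 0; 0, 2, 2, 2, 2, 2, 2, 0, 0; 0, 0, 0, 0, 0, 0, 0, 0, 1],
  !![0, 1, 2, 2, 2, 2, 1, 0, 0; 2, 1, 0, 1, 1, 0, 1, 2, 0; 0, 1, 2, 2, 1, 1, 2, 0, 0; 1, 2, 0, 2, 1, 0, 1, 2, 0; 2, 1, 0, 2, 1, 0, 2, 1, 0; 0, 2, 2, 2, 1, 1, 1, 0, 0; 1, 2, 0, 1, 1, 0, 2, 1, 0; 0, 2, 2, 2, 2, 2, 2, 0, 0; 0, 0, 0, 0, 0, 0, 0, 0, 1],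
  !![0, 1, 2, 2, 1, 1, 2, 0, 0; 2, 2, 2, 0, 0, 1, 1, 1, 0; 1, 2, 0, 2, 2, 0, 2, 1, 0; 2, 0, 1, 2, 2, 1, 0, 2, 0; 2, 0, 2, 1, 2, 1, 0, 1, 0; 1, 2, 0, 1, 2, 0, 1, 2, 0; 1, 1, 2, 0, 0, 2, 1, 1, 0; 0, 2, 2, 2, 2, 2, 2, 0, 0; 0, 0, 0, 0, 0, 0, 0, 0, 1],
  !![2, 2, 2, 0, 0, 1, 1, 1, 0; 0, 2, 1, 1, 2, 2, 1, 0, 0; 1, 0, 2, 1, 1, 2, 0, 1, 0; 1, 2, 0, 2, 2, 0, 2, 1, 0; 1, 2, 0, 1, 2, 0, 1, 2, 0; 1, 0, 1, 2, 1, 2, 0, 2, 0; 0, 1, 1, 1, 1, 1, 1, 0, 0; 1, 1, 2, 0, 0, 2, 1, 1, 0; 0, 0, 0, 0, 0, 0, 0, 0, 1]]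

/-- the certificates for the eigenvectors -/
def ZZ : ZMod 3 → Matrix (Fin 9) (Fin 9) (ZMod 3) := (![
  !![2, 1, 1, 0, 0, 1, 2, 1, 0; 0, 2, 1, 2, 2, 1, 1, 0, 0; 2, 0, 2, 2, 1, 1, 0, 2, 0; 1, 1, 0, 2, 1, 0, 1, 1, 0; 2, 2, 0, 2, 2, 0, 1, 1, 0; 1, 0, 2, 2, 2, 2, 0, 2, 0; 0, 1, 1, 2, 1, 2, 1, 0, 0; 1, 2, 1, 0, 0, 2, 2, 1, 0; 0, 0, 0, 0, 0, 0, 0, 0, 0],
  !![1, 0, 1, 0, 2, 0, 0, 0, 0; 1, 1, 0, 0, 0, 1, 0, 1, 0; 2, 0, 1, 0, 0, 0, 2, 0, 0; 0, 1, 2, 0, 0, 2, 0, 2, 0; 0, 0, 0, 0, 1, 2, 1, 0, 0; 0, 1, 0, 0, 2, 1, 1, 0, 0; 0, 0, 0, 0, 0, 0, 0, 0, 0; 0, 0, 0, 0, 2, 0, 1, 1, 0; 0, 0, 0, 0, 0, 0, 0, 0, 0],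
  !![2, 0, 1, 0, 0, 0, 2, 0, 0; 0, 2, 0, 0, 0, 2, 0, 1, 0; 0, 0, 2, 1, 0, 2, 0, 1, 0; 0, 1, 1, 2, 0, 0, 2, 0, 0; 1, 0, 0, 1, 2, 2, 0, 1, 0; 0, 0, 0, 0, 1, 2, 1, 0, 0; 1, 0, 0, 1, 0, 2, 2, 0, 0; 0, 2, 2, 0, 2, 0, 0, 2, 0; 0, 0, 0, 0, 0, 0, 0, 0, 0]] : Fin 3 → Matrix (Fin 9) (Fin 9) (ZMod 3))

theorem ev_step {i : Fin 18} {w : List (Fin 18 × ℕ)} {Y Z : Matrix (Fin 9) (Fin 9) (ZMod 3)} (h : ev M3 w = Y)
    (e : ∀ b a, ∑ t, M3 i a t * Y t b = Z a b) : ev M3 ((i, 1) :: w) = Z := by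
  rw [ev_cons, h, pow_one]
  exact Matrix.ext fun a b => e b a

theorem yy_zero : ∀ b a : Fin 9, M3 16 a b = YY 0 a b := by decide +kernel

theorem yy_ok : ∀ (k : Fin 7) (b a : Fin 9),
    ∑ t, M3 ((![15, 14, 16, 15, 15, 15, 14] : Fin 7 → Fin 18) k) a t * YY k.castSucc t b = YY k.succ a b := by
  decide +kernel

theorem n_mat : ev M3 fN = YY 7 := by
  have h0 : ev M3 [((16 : Fin 18), 1)] = YY 0 := by
    rw [ev_cons, ev_nil, pow_one, mul_one]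
    exact Matrix.ext fun a b => yy_zero b a
  exact ev_step (ev_step (ev_step (ev_step (ev_step (ev_step (ev_step h0 (yy_ok 0)) (yy_ok 1)) (yy_ok 2)) (yy_ok 3))
    (yy_ok 4)) (yy_ok 5)) (yy_ok 6)

theorem n_act (h3 : H3) : Act D3 a3 (g wN) (YY 7) := by
  have := finG
  rw [← n_eq, ← n_mat]
  exact (bf3 h3).act_ev fN

theorem n_mem (h3 : H3) : g wN ∈ Nm (a3 D3.l) := by
  have := finG
  rw [← n_eq]
  exact (bf3 h3).ev_mem_N fN

theorem zz_ok : ∀ (a : ZMod 3) (j : Fin 9), ZZ a 8 j = 0 ∧ ∀ i : Fin 9,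
    ∑ t, (YY 7 i t - if i = t then a else 0) * ZZ a t j =
      (if i = j ∧ j ≠ 8 then 1 else 0) - if a = 1 ∧ i = 3 then u0 j else 0 := by
  decide +kernel

/-- the only line fixed by the element of order nine -/
theorem eigen {v : Fin 9 → ZMod 3} {a c : ZMod 3} (h : v ᵥ* YY 7 = a • v + Pi.single D3.l c) :
    ∃ b d : ZMod 3, v = b • u0 + Pi.single D3.l d := by
  have h1 : ∀ t, ∑ i, v i * (YY 7 i t - if i = t then a else 0) = if t = 8 then c else 0 := fun t => by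
    have h2 : ∑ i, v i * YY 7 i t = a * v t + (Pi.single D3.l c : Fin 9 → ZMod 3) t := congrFun h t
    simp only [mul_sub, Finset.sum_sub_distrib, mul_ite, mul_zero, Finset.sum_ite_eq', Finset.mem_univ, if_true]
    rw [h2, Pi.single_apply, mul_comm a, add_sub_cancel_left]
    rfl
  have h2 : ∀ j, j ≠ 8 → v j = (if a = 1 then v 3 else 0) * u0 j := fun j hj => by
    have h3 : ∑ i, v i * ∑ t, (YY 7 i t - if i = t then a else 0) * ZZ a t j = 0 := by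
      simp only [Finset.mul_sum, ← mul_assoc]
      rw [Finset.sum_comm]
      refine Finset.sum_eq_zero fun t _ => ?_
      rw [← Finset.sum_mul, h1]
      split_ifs with ht
      · rw [ht, (zz_ok a j).1, mul_zero]
      · rw [zero_mul]
    have h4 : ∀ i, ∑ t, (YY 7 i t - if i = t then a else 0) * ZZ a t j =
        (if i = j then 1 else 0) - if i = 3 then (if a = 1 then u0 j else 0) else 0 := fun i => by
      refine ((zz_ok a j).2 i).trans ?_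
      by_cases h5 : i = j <;> by_cases h6 : i = 3 <;> by_cases h7 : a = 1 <;> simp [h5, h6, h7, hj]
    simp only [h4, mul_sub, Finset.sum_sub_distrib, mul_ite, mul_one, mul_zero, Finset.sum_ite_eq', Finset.mem_univ,
      if_true] at h3
    rw [sub_eq_zero.1 h3]
    split_ifs <;> simp
  refine ⟨if a = 1 then v 3 else 0, v 8, funext fun j => ?_⟩
  rw [Pi.add_apply, Pi.smul_apply, smul_eq_mul, Pi.single_apply]
  by_cases hj : j = 8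
  · rw [if_pos (show j = D3.l from hj), hj, show u0 8 = 0 from rfl, mul_zero, zero_add]
  · rw [if_neg (show ¬ j = D3.l from hj), add_zero, h2 j hj]

/-! ### Subgroups of order nine -/

theorem prime3 : Fact (Nat.Prime 3) := ⟨Nat.prime_three⟩

attribute [local instance] prime3 finG

theorem mem_cl {v : Fin 9 → ZMod 3} {x : G} (hx : x ∈ closure ({a3 D3.l, bf D3 a3 v} : Set G)) :
    ∃ a c : ZMod 3, x = bf D3 a3 (a • v + Pi.single D3.l c) := by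
  have key : ∀ a c a' c' : ZMod 3, (a • v + Pi.single D3.l c) ⬝ᵥ D3.Bm *ᵥ (a' • v + Pi.single D3.l c') = 0 := by
    intro a c a' c'
    rw [mulVec_add, dotProduct_add, (D3_ok.Bm_l _ _).1, add_zero, add_dotProduct, (D3_ok.Bm_l _ _).2, add_zero,
      mulVec_smul, dotProduct_smul, smul_dotProduct, Bm_self, smul_zero, smul_zero]
  induction hx using closure_induction with
  | mem x hx =>
    rcases hx with rfl | rfl
    · exact ⟨0, 1, by rw [zero_smul, zero_add, rel3.bf_l, pw_one]⟩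
    · exact ⟨1, 0, by rw [one_smul, Pi.single_zero, add_zero]⟩
  | one => exact ⟨0, 0, by rw [zero_smul, Pi.single_zero, add_zero, bf_zero]⟩
  | mul x z _ _ hx hz =>
    obtain ⟨a, c, rfl⟩ := hx
    obtain ⟨a', c', rfl⟩ := hz
    refine ⟨a + a', c + c', ?_⟩
    rw [rel3.bf_mul, key, mul_zero, Pi.single_zero, add_zero, add_smul, Pi.single_add, add_add_add_comm]
  | inv x _ hx =>
    obtain ⟨a, c, rfl⟩ := hx
    exact ⟨-a, -c, by rw [← rel3.bf_neg, neg_add, neg_smul, Pi.single_neg]⟩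

theorem card_y : Nat.card (zpowers (a3 D3.l)) = 3 := by rw [Nat.card_zpowers, order_y rel3]

/-- between `⟨y⟩` and a group of order nine -/
theorem between {E K : Subgroup G} (h9 : Nat.card E = 9) (hy : a3 D3.l ∈ K) (hK : K ≤ E) :
    K = zpowers (a3 D3.l) ∨ K = E := by
  have h1 : Nat.card K ∣ 3 ^ 2 := (card_dvd_of_le hK).trans (by rw [h9]; norm_num)
  obtain ⟨k, hk, h2⟩ := (Nat.dvd_prime_pow Nat.prime_three).1 h1
  by_cases h4 : k = 2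
  · exact Or.inr (eq_of_le_of_card_ge hK (by rw [h2, h4, h9]; norm_num))
  · refine Or.inl (eq_of_le_of_card_ge (zpowers_le.2 hy) ?_).symm
    rw [card_y, h2]
    calc 3 ^ k ≤ 3 ^ 1 := Nat.pow_le_pow_right (by norm_num) (by omega)
      _ = 3 := rfl

theorem y_mem_of (h3 : H3) {E : Subgroup G} (h9 : Nat.card E = 9) (hQ : QQ rel3 ≤ normalizer (E : Set G)) :
    a3 D3.l ∈ E := by
  letI : MulAction (QQ rel3) E := MulAction.compHom E ((normalizerMonoidHom E).comp (inclusion hQ))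
  have hs : ∀ (q : QQ rel3) (x : E), ((q • x : E) : G) = q * x * (q : G)⁻¹ := fun _ _ => rfl
  obtain ⟨z, hz, h1⟩ := (IsPGroup.of_card (card_QQ rel3)).exists_fixed_point_of_prime_dvd_card_of_fixed_point
    (α := E) (by rw [h9]; norm_num) (a := 1) (fun q => Subtype.ext (by rw [hs]; simp))
  have h2 : (z : G) ∈ zpowers (a3 D3.l) := (bf3 h3).cent_QQ fun q hq => by
    have h4 : q * z * q⁻¹ = z := (hs ⟨q, hq⟩ z).symm.trans (congrArg Subtype.val (hz ⟨q, hq⟩))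
    exact mul_inv_eq_iff_eq_mul.1 h4
  have h4 : (⟨a3 D3.l, mem_zpowers _⟩ : zpowers (a3 D3.l)) ∈ zpowers ⟨(z : G), h2⟩ :=
    mem_zpowers_of_prime_card card_y fun e => h1 (Subtype.ext (congrArg Subtype.val e).symm)
  obtain ⟨k, hk⟩ := mem_zpowers_iff.1 h4
  have h5 : (z : G) ^ k = a3 D3.l := congrArg Subtype.val hk
  exact h5 ▸ zpow_mem z.2 k

theorem le_QQ (h3 : H3) {E : Subgroup G} (h9 : Nat.card E = 9) (hQ : QQ rel3 ≤ normalizer (E : Set G)) :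
    E ≤ QQ rel3 := by
  have hy := y_mem_of h3 h9 hQ
  rcases between (K := E ⊓ QQ rel3) h9 ⟨hy, y_mem_QQ rel3⟩ inf_le_left with h1 | h1
  swap
  · exact inf_eq_left.1 h1
  intro x hx
  have hc : x * a3 D3.l = a3 D3.l * x := congrArg Subtype.val
    ((IsPGroup.isMulCommutative_of_card_eq_prime_sq (p := 3) (G := E) h9).is_comm.comm ⟨x, hx⟩ ⟨_, hy⟩)
  have hN : x ∈ Nm (a3 D3.l) := cent_le_Nm _ (mem_centralizer_singleton_iff.2 hc)
  obtain ⟨X, hX⟩ := (bf3 h3).exists_act hN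
  have h2 : ∀ v, ∃ c, v = v ᵥ* X + Pi.single D3.l c := fun v => by
    have h4 : x⁻¹ * ((bf D3 a3 v)⁻¹ * x * (bf D3 a3 v)⁻¹⁻¹) ∈ E :=
      mul_mem (inv_mem hx) ((mem_normalizer_iff.1 (inv_mem (hQ (bf_mem_QQ rel3 v))) x).1 hx)
    have h5 : x⁻¹ * ((bf D3 a3 v)⁻¹ * x * (bf D3 a3 v)⁻¹⁻¹) = (bf D3 a3 (v ᵥ* X))⁻¹ * bf D3 a3 v := by
      rw [← hX]; group
    rw [h5] at h4
    have h6 : (bf D3 a3 (v ᵥ* X))⁻¹ * bf D3 a3 v ∈ zpowers (a3 D3.l) :=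
      h1 ▸ mem_inf.2 ⟨h4, mul_mem (inv_mem (bf_mem_QQ rel3 _)) (bf_mem_QQ rel3 _)⟩
    obtain ⟨k, hk⟩ := mem_powers_iff_mem_zpowers.2 h6
    have h7 : a3 D3.l ^ k = (bf D3 a3 (v ᵥ* X))⁻¹ * bf D3 a3 v := hk
    refine ⟨(k : ZMod 3), rel3.bf_inj ?_⟩
    rw [rel3.bf_add_l, Baer.pw, ZMod.val_natCast, ← pow_eq_pow_mod _ (rel3.pow _), h7, mul_inv_cancel_left]
  have h4 : X D3.l D3.l = 1 := by
    have h5 := hX (Pi.single D3.l 1)
    rw [rel3.bf_l, pw_one, mul_assoc, ← hc, inv_mul_cancel_left, ← pw_one (p := 3) (a3 D3.l), ← rel3.bf_l] at h5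
    have h6 := congrFun (rel3.bf_inj h5) D3.l
    rw [vecMul, single_dotProduct, one_mul, Pi.single_eq_same] at h6
    exact h6.symm
  have h5 : Act D3 a3 (bf D3 a3 (D3.R *ᵥ fun i => X i D3.l)) X := by
    refine rel3.act_bf fun i j => ?_
    by_cases hj : j = D3.l
    · rw [if_pos hj, mulVec_mulVec, mulVec, dotProduct, hj]
      simp only [D3_ok.2.2.2, ite_mul, one_mul, zero_mul]
      by_cases hi : i = D3.l
      · rw [if_pos hi, Finset.sum_eq_zero fun t _ => if_neg fun e => e.2 hi, add_zero, hi, h4]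
      · rw [if_neg hi, zero_add, Finset.sum_eq_single i (fun t _ ht => if_neg fun e => ht e.1.symm)
          (fun e => absurd (Finset.mem_univ _) e), if_pos ⟨rfl, hi⟩]
    · obtain ⟨c, hc⟩ := h2 (Pi.single i 1)
      have h6 := congrFun hc j
      rw [Pi.add_apply, Pi.single_eq_of_ne hj, add_zero, vecMul, single_dotProduct, one_mul, Pi.single_apply] at h6
      rw [if_neg hj, add_zero, ← h6]
      simp only [eq_comm]
  obtain ⟨c, hc⟩ := (bf3 h3).eq_of_act hX h5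
  rw [hc, ← rel3.bf_add_l]
  exact bf_mem_QQ rel3 _

theorem eq_UU (h3 : H3) {E : Subgroup G} (h9 : Nat.card E = 9) (hQ : QQ rel3 ≤ normalizer (E : Set G))
    (hn : g wN ∈ normalizer (E : Set G)) : E = UU := by
  have hy := y_mem_of h3 h9 hQ
  obtain ⟨x, hx, hx'⟩ : ∃ x ∈ E, x ∉ zpowers (a3 D3.l) := by
    by_contra h
    have h1 := card_le_of_le (H := E) (K := zpowers (a3 D3.l)) fun x hx => by_contra fun e => h ⟨x, hx, e⟩
    rw [h9, card_y] at h1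
    omega
  have hE : ∀ x ∈ E, x ∉ zpowers (a3 D3.l) → closure ({a3 D3.l, x} : Set G) = E := fun x hx hx' => by
    refine (between h9 (subset_closure (Or.inl rfl)) ((closure_le _).2 ?_)).resolve_left fun e => hx' ?_
    · rintro _ (rfl | rfl)
      exacts [hy, hx]
    · rw [← e]
      exact subset_closure (Or.inr rfl)
  obtain ⟨v, rfl⟩ := le_QQ h3 h9 hQ hx
  have h1 : (g wN)⁻¹ * bf D3 a3 v * (g wN)⁻¹⁻¹ ∈ E := (mem_normalizer_iff.1 (inv_mem hn) _).1 hx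
  rw [inv_inv, n_act h3 v, ← hE _ hx hx'] at h1
  obtain ⟨a, c, e⟩ := mem_cl h1
  obtain ⟨b, d, rfl⟩ := eigen (rel3.bf_inj e)
  have hb : b * b = 1 := by
    have h2 : b ≠ 0 := fun h => hx' (by
      rw [h, zero_smul, zero_add, rel3.bf_l]
      exact pow_mem (mem_zpowers _) _)
    exact (by decide : ∀ b : ZMod 3, b ≠ 0 → b * b = 1) b h2
  have h2 : bf D3 a3 (b • u0) ∈ E := by
    have h4 := mul_mem hx (inv_mem (pow_mem hy d.val))
    rwa [rel3.bf_add_l, Baer.pw, mul_inv_cancel_right] at h4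
  have h4 := pow_mem h2 b.val
  rw [bf_pow rel3, ZMod.natCast_zmod_val, smul_smul, hb, one_smul, ← u_eq] at h4
  have h5 : g wU ∉ zpowers (a3 D3.l) := fun h => by
    obtain ⟨k, hk⟩ := mem_powers_iff_mem_zpowers.2 h
    have h6 : a3 D3.l ^ k = g wU := hk
    rw [pow_eq_pow_mod _ (rel3.pow _), ← ZMod.val_natCast, u_eq] at h6
    have h7 := congrFun (rel3.bf_inj ((rel3.bf_l (k : ZMod 3)).trans h6)) 3
    rw [Pi.single_eq_of_ne (by decide)] at h7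
    exact absurd h7 (by decide)
  rw [← hE _ h4 h5, a3_l]
  rfl

theorem exists_sylow (h3 : H3) : ∃ S : Sylow 3 G, QQ rel3 ≤ S ∧ g wN ∈ (S : Subgroup G) := by
  have h1 : IsPGroup 3 (zpowers (g wN)) := IsPGroup.of_card_dvd_pow (n := 2) (by
    rw [Nat.card_zpowers]
    exact orderOf_dvd_of_pow_eq_one n_pow)
  obtain ⟨S, hS⟩ := (h1.to_sup_of_normal_right' (IsPGroup.of_card (card_QQ rel3))
    (zpowers_le.2 ((bf3 h3).N_le_normQ (n_mem h3)))).exists_le_sylow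
  exact ⟨S, le_sup_right.trans hS, hS (mem_sup_left (mem_zpowers _))⟩

/-- **A group of order nine normalised by a Sylow 3-subgroup is conjugate to `U`.** -/
theorem conj_UU (h3 : H3) {E : Subgroup G} (h9 : Nat.card E = 9) (h13 : 3 ^ 13 ∣ Nat.card (normalizer (E : Set G))) :
    ∃ x : G, E.map (MulAut.conj x).toMonoidHom = UU := by
  obtain ⟨K, hK⟩ := Sylow.exists_subgroup_card_pow_prime 3 h13
  have hK' : Nat.card (K.map (normalizer (E : Set G)).subtype) = 3 ^ 13 := by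
    rw [card_map_of_injective (subtype_injective _), hK]
  obtain ⟨P, hP⟩ := (IsPGroup.of_card hK').exists_le_sylow
  have hPE : (P : Subgroup G) ≤ normalizer (E : Set G) := by
    obtain ⟨k, hk⟩ := IsPGroup.iff_card.1 P.isPGroup'
    have h1 : 3 ^ k ∣ 4154781481226426191177580544000000 := by
      have h2 : Nat.card G = 4154781481226426191177580544000000 := BabyM.Instance.all.card_G
      rw [← hk, ← h2]
      exact card_subgroup_dvd_card _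
    have h2 : k ≤ 13 := by
      by_contra h
      exact absurd ((pow_dvd_pow 3 (by omega : 14 ≤ k)).trans h1) (by norm_num)
    rw [← eq_of_le_of_card_ge hP (by rw [hK', hk]; exact Nat.pow_le_pow_right (by norm_num) h2)]
    exact map_subtype_le K
  obtain ⟨S, h1, h2⟩ := exists_sylow h3
  obtain ⟨x, rfl⟩ := MulAction.exists_smul_eq G P S
  have h4 : ((x • P : Sylow 3 G) : Subgroup G) ≤ normalizer ((E.map (MulAut.conj x).toMonoidHom : Subgroup G) : Set G) := by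
    rw [← map_equiv_normalizer_eq]
    exact map_mono hPE
  exact ⟨x, eq_UU h3 ((card_map_of_injective (MulEquiv.injective _)).trans h9) (h1.trans h4) (h4 h2)⟩

/-- **The normaliser of a group of order nine is not maximal if it contains a Sylow 3-subgroup.** -/
theorem not_coatom_of (h3 : H3) {E : Subgroup G} (h9 : Nat.card E = 9)
    (h13 : 3 ^ 13 ∣ Nat.card (normalizer (E : Set G))) : ¬ IsCoatom (normalizer (E : Set G)) := by
  obtain ⟨x, hx⟩ := conj_UU h3 h9 h13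
  intro h
  apply not_coatom h3
  rw [← hx, ← map_equiv_normalizer_eq]
  exact (OrderIso.isCoatom_iff (MulAut.conj x).mapSubgroup _).2 h

end Cfsg.Agent.BX.N17

private theorem eqs_bx9_n17canon : _root_.True := by
  try have : _root_.True := by simp only [_root_.Cfsg.Agent.BX.N17.fN.eq_1]
  try have : _root_.True := by simp only [_root_.Cfsg.Agent.BX.N17.wN.eq_1]
  try have : _root_.True := by simp only [_root_.Cfsg.Agent.BX.N17.YY.eq_1]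
  try have : _root_.True := by simp only [_root_.Cfsg.Agent.BX.N17.ZZ.eq_1]
  exact _root_.True.intro
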