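import Cfsg.Agent.BX.N17.Canon
import Cfsg.Agent.BX.Frame.Glue3
set_option linter.all false

/-!
# No maximal subgroup `N(3²)` of the Baby Monster contains a Sylow 3-subgroup (helper9)
-/

set_option autoImplicit false

namespace Cfsg.Agent.BX.N17

open Subgroup

/-- the presented group and the group of the model -/
noncomputable def isoG : Spor.BabyMonster ≃* H819.U33.G := BM.KHAll.iso

/-- **The normaliser of a subgroup of order nine is not maximal if its order is divisible by `3 ^ 13`.** -/
theorem not_maximal (E : Subgroup Spor.BabyMonster) (h9 : Nat.card E = 9)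
    (h13 : 3 ^ 13 ∣ Nat.card (normalizer (E : Set Spor.BabyMonster))) :
    ¬ IsCoatom (normalizer (E : Set Spor.BabyMonster)) := by
  intro h
  refine not_coatom_of Frame.Fr3.h3 (E := E.map isoG.toMonoidHom)
    ((card_map_of_injective (f := isoG.toMonoidHom) isoG.injective).trans h9) ?_ ?_
  · rw [← map_equiv_normalizer_eq, card_map_of_injective (f := isoG.toMonoidHom) isoG.injective]
    exact h13
  · rw [← map_equiv_normalizer_eq]
    exact (OrderIso.isCoatom_iff isoG.mapSubgroup _).2 h

/-- a maximal subgroup of order divisible by `3 ^ 13` has no normal subgroup of order nine -/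
theorem no_normal_nine {M E : Subgroup Spor.BabyMonster} (hM : IsCoatom M) (h13 : 3 ^ 13 ∣ Nat.card M)
    (h9 : Nat.card E = 9) : ¬ M ≤ normalizer (E : Set Spor.BabyMonster) := by
  intro h
  rcases h.eq_or_lt with h1 | h1
  · exact not_maximal E h9 (h1 ▸ h13) (h1 ▸ hM)
  · have hs : IsSimpleGroup Spor.BabyMonster := BM.KHAll.isB.1
    rcases hs.eq_bot_or_eq_top_of_normal E (normalizer_eq_top_iff.1 (hM.2 _ h1)) with h2 | h2
    · rw [h2, card_bot] at h9
      omega
    · rw [h2, card_top, BM.KHAll.card_B] at h9
      omega

end Cfsg.Agent.BX.N17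

private theorem eqs_bx9_n17final : _root_.True := by
  try have : _root_.True := by simp only [_root_.Cfsg.Agent.BX.N17.isoG.eq_1]
  exact _root_.True.intro
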