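import Cfsg.Agent.BX.N17.Base
import Cfsg.Agent.BX.No33.Test
set_option linter.all false
open scoped Cfsg.Agent.FastGrp

/-!
# The normaliser of the 3B-pure group `U` of order nine is not a maximal subgroup (helper9)

Let `R = 3^(1+8):2^(1+6)`, normal in `N(⟨y⟩)`, and let `O` be generated by the conjugates `R ^ x` with `y ^ x ∈ U`.
By construction `N(U)` normalises `O`.  The group `O` fixes a vector, so `N(O)` is proper, and `O` contains an element which
does not normalise `U`.

Not proved and not used here: computations outside the kernel indicate that `O` is `O₈⁺(3)` and that the stabiliser of the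
vector is `Fi₂₃`.
-/

set_option autoImplicit false
set_option Elab.async false
set_option maxRecDepth 100000

namespace Cfsg.Agent.BX.N17

open Subgroup Matrix Cfsg.Agent.BX.Frame Cfsg.Agent.BX.Frame.Baer Cfsg.Agent.BX.Frame.Fr3 Cfsg.Agent.BX.No33
open Cfsg.Agent.Monster.VecEngine Cfsg.Agent.Monster.VecSpace Cfsg.Agent.BMx.Fast Cfsg.Agent.BMx.FastV
open Cfsg.Agent.H819.U33 (G g g_cj)
open Cfsg.Agent.H863.U33 (wy1 we0 we1 we2 we3 wr ww2 ww3 ww4 ww5 tb eG wG kG OO PP)
open Cfsg.Agent.H757.U33 (N3 mem_N3 KK_le_N3 n_mem_N3 PP_le_N3 PP_le_UU UU_le_OO y_mem e_mem w_mem nf_mem t_mem_N3 w_mem_N3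
  k_mem_N3)
open Cfsg.Agent.BabyM.Conc (Ltr V U)

attribute [local instance] fact3

/-! ### The vector -/

/-- a vector fixed by `R` and by `g wS` -/
def pv : Pl := .cons 0x0
  (.cons 0x0
  (.cons 0x4b4b222222224b4b4b4b222222224b4b22224b4b4b4b222222224b4b4b4b222222224b4b4b4b222222224b4b4b4b22224b4b222222224b4b4b4b222222224b4b4444d2d2d2d244444444d2d2d2d24444d2d244444444d2d2d2d244444444d2d2d2d244444444d2d2d2d244444444d2d24444d2d2d2d244444444d2d2d2d24444000000000000000000000000000000000000000000000000000000000000000000000000000000000000000000000000000000000000000000000000000000000000000000000000000000000000000000000000000000000040e4200040e42000000000000033cc6699cc3333cc0ff099666699cc3333cccc330ff00ff099660ff00ff033ccf00f9966fffff0f09966000000003c3c9696aaaa696900000000aaaa3c3cc3c396960000a55a69960000aaaa6969000000006666c3c35a5a9696000000ffff000000aaaa00005a5a00000000555500ff966900ff5a5a00003cc3ff00c33c00003c3c5a5aff00ff00000000ffff00ff00f0f0cc3333ccf0f0c33c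
  (.cons 0x20b00000020094a480a02020222404820220a400808200202004243430802202002400b4041222020020b0b08422220000822022020094b490a02220000434a404000904252440444009202c2d20400129204000044c0c0c040044444440000c0c00000440452d2d2d24400444052d244401202108000440444405050c00404000000000000000000000000000000000000000000000000000000000000000000000000000000000000000000000000000000000000000000000000000000000000000000000000000000000000000000000000000000000040000000400000000000000000300c22884411114400f0884422110c03030c0c03096005a088440c3000f0224460099006aa55f00009060000000028148214aaaa69690000000000003030418214820000050a09900000a0a0090900000000222203030a509090000000666600000000aa0000005a00000000555500cc0000000048480000300300000330000000004848cc00990000000055cc00000000000033330030300000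
  (.cons 0x20b00000020094a480a02020222404820220a400808200202004243430802202002400b4041222020020b0b08422220000822022020094b490a02220000434a404000904252440444009202c2d20400129204000044c0c0c040044444440000c0c00000440452d2d2d24400444052d244401202108000440444405050c00404000000000000000000000000000000000000000000000000000000000000000000000000000000000000000000000000000000000000000000000000000000000000000000000000000000000000000000000000000000000040000000400000000000000000300c22884411114400f0884422110c03030c0c03096005a088440c3000f0224460099006aa55f00009060000000028148214aaaa69690000000000003030418214820000050a09900000a0a0090900000000222203030a509090000000666600000000aa0000005a00000000555500cc0000000048480000300300000330000000004848cc00990000000055cc00000000000033330030300000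
  (.cons 0x20b00000020094a480a02020222404820220a400808200202004243430802202002400b4041222020020b0b08422220000822022020094b490a02220000434a404000904252440444009202c2d20400129204000044c0c0c040044444440000c0c00000440452d2d2d24400444052d244401202108000440444405050c00404000000000000000000000000000000000000000000000000000000000000000000000000000000000000000000000000000000000000000000000000000000000000000000000000000000000000000000000000000000000040000000400000000000000000300c22884411114400f0884422110c03030c0c03096005a088440c3000f0224460099006aa75f00009060000000028148214aaaa69690000000000003030418214820000050a09900000a0a0090900000000222203030a509090000000666600000000aa0000005a00000000555500cc0000000048480000300300000330000000004848cc00990000000055cc00000000000033330030300000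
  (.sgn 0x20b00000020094a480a02020222404820220a400808200202004243430802202002400b4041222020020b0b08422220000822022020094b490a02220000434a404000904252440444009202c2d20400129204000044c0c0c040044444440000c0c00000440452d2d2d24400444052d244401202108000440444405050c00404000000000000000000000000000000000000000000000000000000000000000000000000000000000000000000000000000000000000000000000000000000000000000000000000000000000000000000000000000000000040000000400000000000000000300c22884411114400f0884422110c03030c0c03096005a088440c3000f0224460099006aa55f00009060000000028148214aaaa69690000000000003030418214820000050a09900000a0a0090900000000222203030a509090000000666600000000aa0000005a00000000555500cc0000000048480000300300000330000000004848cc00990000000055cc00000000000033330030300000))))))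

/-- conjugates `y` to `u` and fixes the vector -/
def wS : List Ltr :=
  [.z, .Z10, .Z9, .Z7, .Z3, .Z2, .Z0, .X8, .X7, .X6, .X4, .y10, .y9, .y8, .y4, .y3, .y2, .y1, .hi, .p9, .hi, .p6, .hi,
  .p10, .hi, .p, .hi, .p3, .hi, .p4, .hi, .xii, .y2, .hi, .p8, .xii, .y4, .taui, .xii, .y1, .p, .xii, .p, .y7, .xii,
  .y5, .taui, .X0, .p10, .xii, .y10, .p6, .xii, .y3, .p5, .hi, .p7, .tau, .xii, .p6, .xii, .p6, .y8, .xii, .y3, .tau,
  .xii, .p10, .xii]

/-- the vector -/
noncomputable def f0 : V := vecU ℚ U pv

theorem reg_f0 : RegV (ofPl pv) f0 := regV_of_okV (n := 15552) (by decide +kernel)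

theorem reg_eq {x x' : ℕ} {f : V} (h : RegV x f) (h' : RegV x' f) : x = x' :=
  fld_ext (W := 18) (by norm_num) fun i => by exact_mod_cast (h.rep i).trans (h'.rep i).symm

/-- the stabiliser of the vector -/
noncomputable def FF : Subgroup G where
  carrier := {x | act x f0 = f0}
  one_mem' := act_one _
  mul_mem' := by
    intro a b ha hb
    show act (a * b) f0 = f0
    rw [act_mul, ha, hb]
  inv_mem' := fun h => fix_inv act_mul act_one h

theorem mem_FF {w : List Ltr} (h : (runW w (ofPl pv) fun x => Nat.beq x (ofPl pv)) = true) : g w ∈ FF := by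
  obtain ⟨x, hx, hk⟩ := reg_f0.run' w _ h
  rw [Nat.eq_of_beq_eq_true hk] at hx
  exact hx.inj reg_f0

theorem not_mem_FF {w : List Ltr} (h : (runW w (ofPl pv) fun x => not (Nat.beq x (ofPl pv))) = true) : g w ∉ FF := by
  obtain ⟨x, hx, hk⟩ := reg_f0.run' w _ h
  intro hw
  rw [show act (g w) f0 = f0 from hw] at hx
  exact ne_of_not_beq hk (reg_eq hx reg_f0)

theorem y_FF : g wy1 ∈ FF := mem_FF (by decide +kernel)

theorem r_FF : g wr ∈ FF := mem_FF (by decide +kernel)

theorem e_FF (j : Fin 8) : eG j ∈ FF := by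
  have h0 : g we0 ∈ FF := mem_FF (by decide +kernel)
  have h1 : g we1 ∈ FF := mem_FF (by decide +kernel)
  have h2 : g we2 ∈ FF := mem_FF (by decide +kernel)
  have h3 : g we3 ∈ FF := mem_FF (by decide +kernel)
  have h : ∀ v, g v ∈ FF → g (H819.U33.cj wr v) ∈ FF := fun v hv => by
    rw [g_cj]
    exact mul_mem (mul_mem (inv_mem r_FF) hv) r_FF
  fin_cases j
  exacts [h0, h1, h2, h3, h _ h0, h _ h1, h _ h2, h _ h3]

theorem t_FF : g H863.U33.wt ∈ FF := mem_FF (by decide +kernel)

theorem w_FF (a : Fin 6) : wG a ∈ FF := by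
  have h0 : g [.z] ∈ FF := mem_FF (by decide +kernel)
  have h2 : g ww2 ∈ FF := mem_FF (by decide +kernel)
  have h3 : g ww3 ∈ FF := mem_FF (by decide +kernel)
  have h4 : g ww4 ∈ FF := mem_FF (by decide +kernel)
  have h5 : g ww5 ∈ FF := mem_FF (by decide +kernel)
  fin_cases a
  exacts [h0, r_FF, h2, h3, h4, h5]

theorem s_FF : g wS ∈ FF := mem_FF (by decide +kernel)

theorem s_y : (g wS)⁻¹ * g wy1 * g wS = g wU := by
  rw [← g_cj]
  exact eq_of_eqF (by decide +kernel)

theorem z_out : (g [.tau])⁻¹ * g [.z] * g [.tau] ∉ FF := by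
  rw [← g_cj]
  exact not_mem_FF (by decide +kernel)

attribute [irreducible] FF

/-! ### The groups -/

/-- `R = 3^(1+8):2^(1+6)` -/
noncomputable def RR : Subgroup G := OO (g wy1) eG (g H863.U33.wt) wG

theorem RR_le : RR ≤ FF := by
  delta RR OO
  rw [closure_le]
  rintro x (((rfl | ⟨j, rfl⟩) | rfl) | ⟨a, rfl⟩)
  exacts [y_FF, e_FF j, t_FF, w_FF a]

theorem bf_RR (v : Fin 9 → ZMod 3) : bf D3 a3 v ∈ RR := by
  delta a3
  rw [bf_eq tb]
  exact UU_le_OO (PP_le_UU (nf_mem _ _))

theorem conj_RR (h3 : H3) {s r : G} (hs : s ∈ Nm (g wy1)) (hr : r ∈ RR) : s⁻¹ * r * s ∈ RR := by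
  have := finG
  have h1 := (bf3 h3).gen_eq
  rw [a3_l, gen3_eq] at h1
  have h2 : Nm (g wy1) ≤ N3 (g wy1) eG (g H863.U33.wt) wG := by
    rw [h1, closure_le]
    rintro _ ⟨i, rfl⟩
    have he := fun j => PP_le_N3 (t := g H863.U33.wt) (w := wG) (e_mem (y := g wy1) (e := eG) j)
    have hy := PP_le_N3 (t := g H863.U33.wt) (w := wG) (y_mem (y := g wy1) (e := eG))
    have hw := w_mem_N3 tb
    have hk := k_mem_N3 tb
    fin_cases i
    exacts [he 0, he 1, mul_mem (mul_mem (he 2) hy) hy, he 3, he 4, he 5, mul_mem (mul_mem (he 6) hy) hy, he 7,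
      t_mem_N3 tb, hw 0, hw 1, hw 2, hw 3, hw 4, hw 5, hk 0, hk 1, n_mem_N3 tb]
  exact (mem_N3.1 (h2 hs)).2.2 r hr

/-- the elements of `U` -/
theorem mem_UU {x : G} (hx : x ∈ UU) : ∃ a c : ZMod 3, x = bf D3 a3 (a • u0 + Pi.single D3.l c) := by
  have key : ∀ a c a' c' : ZMod 3, (a • u0 + Pi.single D3.l c) ⬝ᵥ D3.Bm *ᵥ (a' • u0 + Pi.single D3.l c') = 0 := by
    intro a c a' c'
    rw [mulVec_add, dotProduct_add, (D3_ok.Bm_l _ _).1, add_zero, add_dotProduct, (D3_ok.Bm_l _ _).2, add_zero,
      mulVec_smul, dotProduct_smul, smul_dotProduct, Bm_self, smul_zero, smul_zero]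
  induction hx using closure_induction with
  | mem x hx =>
    rcases hx with rfl | rfl
    · exact ⟨0, 1, by rw [zero_smul, zero_add, rel3.bf_l, pw_one, a3_l]⟩
    · exact ⟨1, 0, by rw [one_smul, Pi.single_zero, add_zero, u_eq]⟩
  | one => exact ⟨0, 0, by rw [zero_smul, Pi.single_zero, add_zero, bf_zero]⟩
  | mul x z _ _ hx hz =>
    obtain ⟨a, c, rfl⟩ := hx
    obtain ⟨a', c', rfl⟩ := hz
    refine ⟨a + a', c + c', ?_⟩
    rw [rel3.bf_mul, key, mul_zero, Pi.single_zero, add_zero, add_smul, Pi.single_add, add_add_add_comm]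
  | inv x _ hx =>
    obtain ⟨a, c, rfl⟩ := hx
    exact ⟨-a, -c, by rw [← rel3.bf_neg, neg_add, neg_smul, Pi.single_neg]⟩

theorem mem_Nm {s : G} (h : s⁻¹ * g wy1 * s ∈ zpowers (g wy1)) : s ∈ Nm (g wy1) := by
  have := finG
  rw [← Subgroup.inv_mem_iff]
  refine mem_normalizer_fintype fun z hz => ?_
  obtain ⟨k, rfl⟩ := mem_zpowers_iff.1 hz
  rw [← conj_zpow, inv_inv]
  exact zpow_mem h _

/-- an element which conjugates `y` into `U` lies in `N(⟨y⟩) F` -/
theorem split {x : G} (hx : x⁻¹ * g wy1 * x ∈ UU) : ∃ s ∈ Nm (g wy1), ∃ f ∈ FF, x = s * f := by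
  obtain ⟨a, c, e⟩ := mem_UU hx
  by_cases ha : a = 0
  · refine ⟨x, mem_Nm ?_, 1, one_mem _, (mul_one x).symm⟩
    rw [e, ha, zero_smul, zero_add, rel3.bf_l, a3_l]
    exact pow_mem (mem_zpowers _) _
  · have key : ∀ a c : ZMod 3, a ≠ 0 → ∃ d : ZMod 3, ∀ j : Fin 9, (a * u0 j + (if j = 8 then c else 0) +
        if j = 8 then (∑ i, (a * u0 i + if i = 8 then c else 0) * (D3.Bm i 2 * d)) else 0) = a * u0 j := by
      delta Num.Bm
      decide +kernel
    obtain ⟨d, hd⟩ := key a c ha
    have h1 := rel3.bf_conj (a • u0 + Pi.single D3.l c) (Pi.single 2 d)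
    have h2 : a • u0 + Pi.single D3.l c + Pi.single D3.l ((a • u0 + Pi.single D3.l c) ⬝ᵥ D3.Bm *ᵥ Pi.single 2 d) =
        a • u0 := by
      funext j
      refine Eq.trans ?_ (hd j)
      rw [Pi.add_apply, Pi.add_apply, Pi.single_apply, Pi.single_apply, dotProduct]
      simp only [Pi.add_apply, Pi.smul_apply, smul_eq_mul, Pi.single_apply, mulVec, dotProduct_single]
      rfl
    rw [h2, ← e] at h1
    have h4 : bf D3 a3 (a • u0) ∈ zpowers (g wU) := by
      rw [← ZMod.natCast_zmod_val a, ← bf_pow rel3, ← u_eq]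
      exact pow_mem (mem_zpowers _) _
    obtain ⟨k, hk⟩ := mem_zpowers_iff.1 h4
    generalize hq : bf D3 a3 (Pi.single 2 d) = q at h1
    have hqF : q ∈ FF := hq ▸ RR_le (bf_RR _)
    refine ⟨x * q * (g wS)⁻¹, mem_Nm ?_, g wS * q⁻¹, mul_mem s_FF (inv_mem hqF), by group⟩
    have h5 : (x * q * (g wS)⁻¹)⁻¹ * g wy1 * (x * q * (g wS)⁻¹) = g wy1 ^ k := by
      calc _ = g wS * (q⁻¹ * (x⁻¹ * g wy1 * x) * q) * (g wS)⁻¹ := by group
        _ = (g wS * g wU * (g wS)⁻¹) ^ k := by rw [h1, ← hk, conj_zpow]
        _ = _ := by rw [← s_y]; group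
    rw [h5]
    exact zpow_mem (mem_zpowers _) _

/-- the group generated by the conjugates of `R` (its structure is not determined here) -/
noncomputable def O8 : Subgroup G := closure {z | ∃ x r, x⁻¹ * g wy1 * x ∈ UU ∧ r ∈ RR ∧ z = x⁻¹ * r * x}

theorem O8_le (h3 : H3) : O8 ≤ FF := by
  delta O8
  rw [closure_le]
  rintro _ ⟨x, r, hx, hr, rfl⟩
  obtain ⟨s, hs, f, hf, rfl⟩ := split hx
  have h1 := mul_mem (mul_mem (inv_mem hf) (RR_le (conj_RR h3 hs hr))) hf
  rwa [show f⁻¹ * (s⁻¹ * r * s) * f = (s * f)⁻¹ * r * (s * f) by group] at h1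

theorem RR_le_O8 : RR ≤ O8 := fun r hr => subset_closure ⟨1, r, by
  rw [inv_one, one_mul, mul_one]
  exact subset_closure (Or.inl rfl), hr, by rw [inv_one, one_mul, mul_one]⟩

theorem norm_le : normalizer ((UU : Subgroup G) : Set G) ≤ normalizer ((O8 : Subgroup G) : Set G) := by
  have := finG
  intro s hs
  rw [← Subgroup.inv_mem_iff]
  refine mem_normalizer_fintype fun z hz => ?_
  rw [inv_inv]
  refine H757.U33.conj_closure ?_ hz
  rintro _ ⟨x, r, hx, hr, rfl⟩
  refine subset_closure ⟨x * s, r, ?_, hr, by group⟩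
  have h1 := (mem_normalizer_iff.1 (inv_mem hs) _).1 hx
  rwa [show s⁻¹ * (x⁻¹ * g wy1 * x) * s⁻¹⁻¹ = (x * s)⁻¹ * g wy1 * (x * s) by group] at h1

theorem z_RR : g [.z] ∈ RR := w_mem (y := g wy1) (e := eG) (t := g H863.U33.wt) (w := wG) 0

theorem z_not_mem : g [.z] ∉ normalizer ((UU : Subgroup G) : Set G) := by
  intro h
  have h1 : (g [.z])⁻¹ * g wU * (g [.z])⁻¹⁻¹ ∈ UU :=
    (mem_normalizer_iff.1 (inv_mem h) _).1 (subset_closure (Or.inr rfl))
  have h2 : (g [.z])⁻¹ * bf D3 a3 u0 * g [.z] = bf D3 a3 (u0 ᵥ* M3 9) := act3 9 u0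
  rw [inv_inv, u_eq, h2] at h1
  obtain ⟨a, c, e⟩ := mem_UU h1
  have h3 := rel3.bf_inj e
  have h4 := congrFun h3 3
  have h5 := congrFun h3 5
  revert h4 h5
  clear h3 e
  revert a c
  decide +kernel

theorem norm_ne_top (h3 : H3) : normalizer ((O8 : Subgroup G) : Set G) ≠ ⊤ := by
  intro h
  have h1 : (g [.tau])⁻¹ ∈ normalizer ((O8 : Subgroup G) : Set G) := h ▸ mem_top _
  have h2 := (mem_normalizer_iff.1 h1 _).1 (RR_le_O8 z_RR)
  rw [inv_inv] at h2
  exact z_out (O8_le h3 h2)

/-- **`N(U)` lies properly in the proper subgroup `N(O)`.** -/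
theorem lt_proper (h3 : H3) : normalizer ((UU : Subgroup G) : Set G) < normalizer ((O8 : Subgroup G) : Set G) ∧
    normalizer ((O8 : Subgroup G) : Set G) ≠ ⊤ :=
  ⟨lt_of_le_of_ne norm_le fun h => z_not_mem (h ▸ le_normalizer (RR_le_O8 z_RR)), norm_ne_top h3⟩

/-- **`N(U)` is not a maximal subgroup.** -/
theorem not_coatom (h3 : H3) : ¬ IsCoatom (normalizer ((UU : Subgroup G) : Set G)) :=
  fun h => (lt_proper h3).2 (h.2 _ (lt_proper h3).1)

end Cfsg.Agent.BX.N17

private theorem eqs_bx9_n17main : _root_.True := by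
  try have : _root_.True := by simp only [_root_.Cfsg.Agent.BX.N17.pv.eq_1]
  try have : _root_.True := by simp only [_root_.Cfsg.Agent.BX.N17.wS.eq_1]
  try have : _root_.True := by simp only [_root_.Cfsg.Agent.BX.N17.f0.eq_1]
  try have : _root_.True := by simp only [_root_.Cfsg.Agent.BX.N17.FF.eq_1]
  try have : _root_.True := by simp only [_root_.Cfsg.Agent.BX.N17.RR.eq_1]
  try have : _root_.True := by simp only [_root_.Cfsg.Agent.BX.N17.O8.eq_1]
  exact _root_.True.intro
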