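import Cfsg.Agent.BX.N17.OrbD
import Cfsg.Agent.BX.Frame.Fr3W
set_option linter.all false

/-!
# The orbits of the normaliser of a 3B-element on `Q / ⟨y⟩` (helper17)

The nonzero vectors of `F₃⁸` fall into two classes, of sizes 5120 (class 1) and 1440 (class 2).  The classes are invariant under the
eighteen matrices `M3 i`, and every vector is moved to the base point of its class by the matrices `M3 8, …, M3 16`.
-/

set_option autoImplicit false
set_option maxRecDepth 100000
set_option maxHeartbeats 400000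

namespace Cfsg.Agent.BX.N17.Orb

open Matrix Cfsg.Agent.BX.Frame.Fr3

/-- the first eight entries -/
def toR (v : Fin 9 → ZMod 3) : R8 := ⟨(v 0).val, (v 1).val, (v 2).val, (v 3).val, (v 4).val, (v 5).val, (v 6).val, (v 7).val⟩

/-- the code of the first eight entries -/
def code (v : Fin 9 → ZMod 3) : ℕ := cd (v 0).val (v 1).val (v 2).val (v 3).val (v 4).val (v 5).val (v 6).val (v 7).val

/-- the columns of a matrix -/
def toC (X : Matrix (Fin 9) (Fin 9) (ZMod 3)) : C8 :=
  ⟨toR fun i => X i 0, toR fun i => X i 1, toR fun i => X i 2, toR fun i => X i 3, toR fun i => X i 4, toR fun i => X i 5,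
    toR fun i => X i 6, toR fun i => X i 7⟩

theorem leaf_all (v : Fin 9 → ZMod 3) :
    leaf (v 0).val (v 1).val (v 2).val (v 3).val (v 4).val (v 5).val (v 6).val (v 7).val = true := by
  have h : all3 part = true := by
    unfold all3
    rw [part0, part1, part2]
    rfl
  exact all3_spec (all3_spec (all3_spec (all3_spec (all3_spec (all3_spec (all3_spec (all3_spec h (v 7)) (v 6)) (v 5)) (v 4))
    (v 3)) (v 2)) (v 1)) (v 0)

theorem dot_eq (v w : Fin 9 → ZMod 3) (h : w 8 = 0) : dot (toR v) (toR w) = (v ⬝ᵥ w).val := by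
  have e : v ⬝ᵥ w = ((((v 0).val * (w 0).val + (v 1).val * (w 1).val) + ((v 2).val * (w 2).val + (v 3).val * (w 3).val)) +
      (((v 4).val * (w 4).val + (v 5).val * (w 5).val) + ((v 6).val * (w 6).val + (v 7).val * (w 7).val)) : ℕ) := by
    push_cast
    simp only [ZMod.natCast_zmod_val, dotProduct, Fin.sum_univ_succ, Fin.sum_univ_zero]
    show v 0 * w 0 + (v 1 * w 1 + (v 2 * w 2 + (v 3 * w 3 + (v 4 * w 4 + (v 5 * w 5 + (v 6 * w 6 + (v 7 * w 7 +
      (v 8 * w 8 + 0)))))))) = _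
    rw [h]
    ring
  rw [e, ZMod.val_natCast]
  rfl

theorem img_eq (v : Fin 9 → ZMod 3) {X : Matrix (Fin 9) (Fin 9) (ZMod 3)} (h : ∀ j, j ≠ 8 → X 8 j = 0) :
    img (toC X) (toR v) = code (v ᵥ* X) := by
  unfold img toC code
  rw [dot_eq v _ (h 0 (by decide)), dot_eq v _ (h 1 (by decide)), dot_eq v _ (h 2 (by decide)), dot_eq v _ (h 3 (by decide)),
    dot_eq v _ (h 4 (by decide)), dot_eq v _ (h 5 (by decide)), dot_eq v _ (h 6 (by decide)), dot_eq v _ (h 7 (by decide))]
  rfl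

theorem row8 : ∀ (i : Fin 18) (j : Fin 9), j ≠ 8 → M3 i 8 j = 0 := by decide +kernel

theorem mC_eq : mC = [toC (M3 8), toC (M3 9), toC (M3 10), toC (M3 11), toC (M3 12), toC (M3 13), toC (M3 14), toC (M3 15),
    toC (M3 16)] := by rfl

theorem mN_eq : mN = toC (M3 17) := by rfl

/-- the class -/
def cls (v : Fin 9 → ZMod 3) : ℕ := ent (code v) / 16

theorem run_spec {x : R8} {e : ℕ} {l : List C8} : ∀ {fl : Bool}, run x e l fl = true →
    (∀ m ∈ l, ent (img m x) / 16 = e / 16) ∧ (fl = true ∨ ∃ m ∈ l, ent (img m x) < e) := by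
  induction l with
  | nil => exact fun h => ⟨fun m hm => by simp at hm, Or.inl h⟩
  | cons m l ih =>
    intro fl h
    have h1 : (bif Nat.beq (ent (img m x) / 16) (e / 16) then run x e l (bif fl then true else Nat.blt (ent (img m x)) e)
      else false) = true := h
    rcases h2 : Nat.beq (ent (img m x) / 16) (e / 16) with _ | _
    · rw [h2] at h1
      exact absurd h1 Bool.false_ne_true
    · rw [h2, cond_true] at h1
      obtain ⟨h3, h4⟩ := ih h1
      refine ⟨fun m' hm' => ?_, ?_⟩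
      · rcases List.mem_cons.1 hm' with rfl | hm'
        · exact Nat.eq_of_beq_eq_true h2
        · exact h3 m' hm'
      · rcases h4 with h4 | ⟨m', hm', h5⟩
        · cases fl
          · exact Or.inr ⟨m, List.mem_cons_self, by rwa [cond_false, Nat.blt_eq] at h4⟩
          · exact Or.inl rfl
        · exact Or.inr ⟨m', List.mem_cons_of_mem _ hm', h5⟩

theorem leaf_spec (v : Fin 9 → ZMod 3) : cls (v ᵥ* M3 17) = cls v ∧ (cls v = 0 → code v = 0) ∧ cls v ≤ 2 ∧
    (∀ m ∈ mC, ent (img m (toR v)) / 16 = cls v) ∧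
      (code v = base (cls v) ∨ ∃ m ∈ mC, ent (img m (toR v)) < ent (code v)) := by
  have h : (bif Nat.beq (ent (img mN (toR v)) / 16) (cls v) then
      bif (bif Nat.beq (cls v) 0 then Nat.beq (code v) 0 else Nat.ble (cls v) 2) then
        run (toR v) (ent (code v)) mC (Nat.beq (code v) (base (cls v))) else false else false) = true := leaf_all v
  rw [mN_eq, img_eq v (row8 17)] at h
  rcases h1 : Nat.beq (ent (code (v ᵥ* M3 17)) / 16) (cls v) with _ | _
  · rw [h1] at h
    exact absurd h Bool.false_ne_true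
  rw [h1, cond_true] at h
  rcases h2 : (bif Nat.beq (cls v) 0 then Nat.beq (code v) 0 else Nat.ble (cls v) 2) with _ | _
  · rw [h2] at h
    exact absurd h Bool.false_ne_true
  rw [h2, cond_true] at h
  obtain ⟨h3, h4⟩ := run_spec h
  refine ⟨Nat.eq_of_beq_eq_true h1, fun h5 => ?_, ?_, h3, h4.imp_left Nat.eq_of_beq_eq_true⟩
  · rw [h5] at h2
    exact Nat.eq_of_beq_eq_true h2
  · rcases h5 : Nat.beq (cls v) 0 with _ | _
    · rw [h5, cond_false] at h2
      exact Nat.le_of_ble_eq_true h2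
    · rw [Nat.eq_of_beq_eq_true h5]
      norm_num

theorem mem_mC {m : C8} (h : m ∈ mC) : ∃ i : Fin 18, i ≠ 17 ∧ m = toC (M3 i) := by
  rw [mC_eq] at h
  simp only [List.mem_cons, List.not_mem_nil, or_false] at h
  rcases h with h | h | h | h | h | h | h | h | h <;> exact ⟨_, by decide, h⟩

theorem code_inj {v w : Fin 9 → ZMod 3} (h : code v = code w) (i : Fin 9) (hi : i ≠ 8) : v i = w i := by
  have h0 : ∀ i, (v i).val < 3 := fun i => ZMod.val_lt _
  have h1 : ∀ i, (w i).val < 3 := fun i => ZMod.val_lt _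
  have h2 : (v 0).val + 3 * ((v 1).val + 3 * ((v 2).val + 3 * ((v 3).val + 3 * ((v 4).val + 3 * ((v 5).val + 3 *
      ((v 6).val + 3 * (v 7).val)))))) = (w 0).val + 3 * ((w 1).val + 3 * ((w 2).val + 3 * ((w 3).val + 3 * ((w 4).val + 3 *
      ((w 5).val + 3 * ((w 6).val + 3 * (w 7).val)))))) := h
  have a0 := h0 0; have a1 := h0 1; have a2 := h0 2; have a3 := h0 3; have a4 := h0 4; have a5 := h0 5; have a6 := h0 6
  have b0 := h1 0; have b1 := h1 1; have b2 := h1 2; have b3 := h1 3; have b4 := h1 4; have b5 := h1 5; have b6 := h1 6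
  have h3 : (v 0).val = (w 0).val ∧ (v 1).val = (w 1).val ∧ (v 2).val = (w 2).val ∧ (v 3).val = (w 3).val ∧
      (v 4).val = (w 4).val ∧ (v 5).val = (w 5).val ∧ (v 6).val = (w 6).val ∧ (v 7).val = (w 7).val := by omega
  apply ZMod.val_injective
  fin_cases i
  exacts [h3.1, h3.2.1, h3.2.2.1, h3.2.2.2.1, h3.2.2.2.2.1, h3.2.2.2.2.2.1, h3.2.2.2.2.2.2.1, h3.2.2.2.2.2.2.2, absurd rfl hi]

theorem code_congr {v w : Fin 9 → ZMod 3} (h : ∀ i, i ≠ 8 → v i = w i) : code v = code w := by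
  unfold code
  rw [h 0 (by decide), h 1 (by decide), h 2 (by decide), h 3 (by decide), h 4 (by decide), h 5 (by decide), h 6 (by decide),
    h 7 (by decide)]

theorem cls_congr {v w : Fin 9 → ZMod 3} (h : ∀ i, i ≠ 8 → v i = w i) : cls v = cls w := by
  unfold cls
  rw [code_congr h]

theorem inner_id (i : Fin 18) (hi : i.val < 8) (a b : Fin 9) (hb : b ≠ 8) : M3 i a b = if a = b then 1 else 0 := by
  have h : ∀ (j : Fin 8) (b a : Fin 9), M3 (j.castLE (by norm_num)) a b = (if a = b then (1 : ZMod 3) else 0) ∨ b = 8 := by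
    decide +kernel
  exact (h ⟨i.val, hi⟩ b a).resolve_right hb

/-- **the classes are invariant** -/
theorem cls_gen (i : Fin 18) (v : Fin 9 → ZMod 3) : cls (v ᵥ* M3 i) = cls v := by
  obtain ⟨h1, -, -, h2, -⟩ := leaf_spec v
  have h3 : ∀ i : Fin 18, toC (M3 i) ∈ mC → cls (v ᵥ* M3 i) = cls v := fun i hi => by
    have h4 := h2 _ hi
    rwa [img_eq v (row8 i)] at h4
  by_cases hi : i.val < 8
  · refine cls_congr fun b hb => ?_
    show ∑ a, v a * M3 i a b = v b
    simp only [inner_id i hi _ b hb, mul_ite, mul_one, mul_zero, Finset.sum_ite_eq', Finset.mem_univ, if_true]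
  · have h4 : i = 8 ∨ i = 9 ∨ i = 10 ∨ i = 11 ∨ i = 12 ∨ i = 13 ∨ i = 14 ∨ i = 15 ∨ i = 16 ∨ i = 17 := by omega
    rcases h4 with rfl | rfl | rfl | rfl | rfl | rfl | rfl | rfl | rfl | rfl
    on_goal 10 => exact h1
    all_goals (apply h3; rw [mC_eq]; simp only [List.mem_cons, true_or, or_true])

/-- **descent to the base point** -/
theorem descent {P : (Fin 9 → ZMod 3) → Prop} (h0 : ∀ v, code v = base (cls v) → P v)
    (h1 : ∀ v (i : Fin 18), i ≠ 17 → P (v ᵥ* M3 i) → P v) (v : Fin 9 → ZMod 3) : P v := by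
  obtain ⟨n, hn⟩ : ∃ n, ent (code v) = n := ⟨_, rfl⟩
  induction n using Nat.strong_induction_on generalizing v with
  | _ n ih =>
    rcases (leaf_spec v).2.2.2.2 with h | ⟨m, hm, h⟩
    · exact h0 v h
    · obtain ⟨i, hi, rfl⟩ := mem_mC hm
      rw [img_eq v (row8 i), hn] at h
      exact h1 v i hi (ih _ h _ rfl)

theorem cls_zero {v : Fin 9 → ZMod 3} : cls v = 0 ↔ ∀ i, i ≠ 8 → v i = 0 := by
  refine ⟨fun h i hi => code_inj (w := 0) ((leaf_spec v).2.1 h) i hi, fun h => ?_⟩
  rw [cls_congr (w := 0) h]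
  decide +kernel

theorem cls_le (v : Fin 9 → ZMod 3) : cls v ≤ 2 := (leaf_spec v).2.2.1

/-- vectors as numbers -/
def num : (Fin 9 → ZMod 3) ≃ Fin (3 ^ 9) := finFunctionFinEquiv (m := 3) (n := 9)

theorem num_mod (v : Fin 9 → ZMod 3) : (num v : ℕ) % 6561 = code v := by
  have h0 : ∀ i, (v i).val < 3 := fun i => ZMod.val_lt _
  have h1 : (num v : ℕ) = ∑ i : Fin 9, (v i).val * 3 ^ (i : ℕ) := finFunctionFinEquiv_apply (m := 3) (n := 9) v
  have h2 : ∑ i : Fin 9, (v i).val * 3 ^ (i : ℕ) = (v 0).val * 3 ^ 0 + ((v 1).val * 3 ^ 1 +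
      ((v 2).val * 3 ^ 2 + ((v 3).val * 3 ^ 3 + ((v 4).val * 3 ^ 4 + ((v 5).val * 3 ^ 5 + ((v 6).val * 3 ^ 6 +
      ((v 7).val * 3 ^ 7 + ((v 8).val * 3 ^ 8 + 0)))))))) := by
    simp only [Fin.sum_univ_succ, Fin.sum_univ_zero]
    rfl
  have h3 : code v = (v 0).val + 3 * ((v 1).val + 3 * ((v 2).val + 3 * ((v 3).val + 3 * ((v 4).val + 3 * ((v 5).val + 3 *
    ((v 6).val + 3 * (v 7).val)))))) := rfl
  have a0 := h0 0; have a1 := h0 1; have a2 := h0 2; have a3 := h0 3; have a4 := h0 4; have a5 := h0 5; have a6 := h0 6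
  have a7 := h0 7
  rw [h1, h2, h3]
  omega

theorem card_cls (k : ℕ) : Nat.card {v : Fin 9 → ZMod 3 // cls v = k} =
    Nat.count (fun c => ent (c % 6561) / 16 = k) 19683 := by
  have h : Nat.card {c : ℕ // c < 19683 ∧ ent (c % 6561) / 16 = k} = Nat.count (fun c => ent (c % 6561) / 16 = k) 19683 := by
    rw [Nat.count_eq_card_fintype]
    exact @Nat.card_eq_fintype_card _ (_)
  rw [← h]
  refine Nat.card_congr ⟨fun v => ⟨num v.1, (num v.1).2, ?_⟩, fun c => ⟨num.symm ⟨c.1, c.2.1⟩, ?_⟩, fun v => ?_, fun c => ?_⟩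
  · rw [num_mod]
    exact v.2
  · unfold cls
    rw [← num_mod, Equiv.apply_symm_apply]
    exact c.2.2
  · exact Subtype.ext (num.symm_apply_apply v.1)
  · exact Subtype.ext (congrArg Fin.val (num.apply_symm_apply ⟨c.1, c.2.1⟩))

theorem card1 : Nat.card {v : Fin 9 → ZMod 3 // cls v = 1} = 15360 := (card_cls 1).trans count1

theorem card2 : Nat.card {v : Fin 9 → ZMod 3 // cls v = 2} = 4320 := (card_cls 2).trans count2

end Cfsg.Agent.BX.N17.Orb

private theorem eqs_bx17_orbk : _root_.True := by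
  try have : _root_.True := by simp only [_root_.Cfsg.Agent.BX.N17.Orb.toR.eq_1]
  try have : _root_.True := by simp only [_root_.Cfsg.Agent.BX.N17.Orb.code.eq_1]
  try have : _root_.True := by simp only [_root_.Cfsg.Agent.BX.N17.Orb.toC.eq_1]
  try have : _root_.True := by simp only [_root_.Cfsg.Agent.BX.N17.Orb.cls.eq_1]
  try have : _root_.True := by simp only [_root_.Cfsg.Agent.BX.N17.Orb.num.eq_1]
  exact _root_.True.intro
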