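import Cfsg.Agent.BX.N17.OrbK
import Cfsg.Agent.BX.Frame.Baer
set_option linter.all false

/-!
# Groups of order nine through a 3B-element: the orders of the normalisers (helper17)

In a frame `BF D3 a gen M3` with `|C(y)| = 65303470080`, for `U = ⟨y, bf u⟩`:
* `card_one` : `|N(U)| = 3 ^ 13 * 2 ^ 7` if `u` has class 1 and some element of `N(U)` moves `⟨y⟩`;
* `pure_U` : then all elements of `U` other than the identity are conjugate to `y`.
-/

set_option autoImplicit false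
set_option maxRecDepth 100000
set_option maxHeartbeats 400000
set_option linter.unusedSectionVars false

namespace Cfsg.Agent.BX.N17.Ord

open Subgroup Matrix Cfsg.Agent.BX.Frame Cfsg.Agent.BX.Frame.Baer Cfsg.Agent.BX.N17.Orb
open Cfsg.Agent.BX.Frame.Fr3 (M3 D3)

theorem fact3 : Fact (1 < 3) := ⟨by norm_num⟩

attribute [local instance] fact3

variable {G : Type*} [Group G] [Finite G]

/-- orbit and stabiliser -/
theorem card_orbit (K : Subgroup G) (x : G) :
    Nat.card K = {z : G | ∃ s ∈ K, s⁻¹ * x * s = z}.ncard * Nat.card (K ⊓ centralizer ({x} : Set G) : Subgroup G) := by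
  letI : MulAction K G := MulAction.compHom G ((MulAut.conj (G := G)).comp K.subtype)
  have h0 : ∀ (s : K) (z : G), s • z = s * z * (s : G)⁻¹ := fun _ _ => rfl
  have h1 : MulAction.orbit K x = {z : G | ∃ s ∈ K, s⁻¹ * x * s = z} := by
    ext z
    constructor
    · rintro ⟨s, rfl⟩
      exact ⟨(s : G)⁻¹, inv_mem s.2, by rw [inv_inv]; exact (h0 s x).symm⟩
    · rintro ⟨s, hs, rfl⟩
      exact ⟨⟨s⁻¹, inv_mem hs⟩, by show _ • x = _; rw [h0]; simp⟩
  have h2 : MulAction.stabilizer K x = (K ⊓ centralizer ({x} : Set G)).subgroupOf K := by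
    ext s
    rw [MulAction.mem_stabilizer_iff, h0, mem_subgroupOf, mem_inf, mem_centralizer_singleton_iff, mul_inv_eq_iff_eq_mul]
    exact ⟨fun h => ⟨s.2, h⟩, fun h => h.2⟩
  rw [← h1, ← MulAction.index_stabilizer, ← Nat.card_congr (subgroupOfEquivOfLe (inf_le_left : K ⊓ _ ≤ K)).toEquiv, ← h2,
    index_mul_card]

theorem norm_of {y x s : G} (hy : s⁻¹ * y * s ∈ closure ({y, x} : Set G)) (hx : s⁻¹ * x * s ∈ closure ({y, x} : Set G)) :
    s ∈ normalizer ((closure ({y, x} : Set G) : Subgroup G) : Set G) := by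
  rw [← Subgroup.inv_mem_iff]
  refine mem_normalizer_fintype fun z hz => ?_
  rw [inv_inv]
  induction hz using closure_induction with
  | mem z hz =>
    rcases hz with rfl | rfl
    exacts [hy, hx]
  | one => rw [mul_one, inv_mul_cancel]; exact one_mem _
  | mul a b _ _ ha hb =>
    have h := mul_mem ha hb
    rwa [show s⁻¹ * a * s * (s⁻¹ * b * s) = s⁻¹ * (a * b) * s by group] at h
  | inv a _ ha =>
    have h := inv_mem ha
    rwa [show (s⁻¹ * a * s)⁻¹ = s⁻¹ * a⁻¹ * s by group] at h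

theorem conj_mem {V : Subgroup G} {s z : G} (hs : s ∈ normalizer (V : Set G)) (hz : z ∈ V) : s⁻¹ * z * s ∈ V := by
  have h := (mem_normalizer_iff.1 (inv_mem hs) z).1 hz
  rwa [inv_inv] at h

theorem conj_y {y s : G} (hs : s ∈ centralizer ({y} : Set G)) : s⁻¹ * y * s = y := by
  rw [mul_assoc, ← mem_centralizer_singleton_iff.1 hs, inv_mul_cancel_left]

theorem mem_cent {y s : G} (hs : s⁻¹ * y * s = y) : s ∈ centralizer ({y} : Set G) := by
  rw [mem_centralizer_singleton_iff]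
  calc s * y = s * (s⁻¹ * y * s) := by rw [hs]
    _ = y * s := by group

theorem sg_ne {i : Fin 9} (hi : i ≠ 8) (c : ZMod 3) : (Pi.single D3.l c : Fin 9 → ZMod 3) i = 0 := by
  rw [Pi.single_apply]
  exact if_neg hi

theorem sg_eq (c : ZMod 3) : (Pi.single D3.l c : Fin 9 → ZMod 3) 8 = c := by
  rw [Pi.single_apply]
  exact if_pos rfl

variable {a : Fin 9 → G} {gen : Fin 18 → G}

/-- the group generated by `y` and `bf u` -/
def Uu (a : Fin 9 → G) (u : Fin 9 → ZMod 3) : Subgroup G := closure {a D3.l, bf D3 a u}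

theorem y_mem (u : Fin 9 → ZMod 3) : a D3.l ∈ Uu a u := subset_closure (Or.inl rfl)

theorem x_mem (u : Fin 9 → ZMod 3) : bf D3 a u ∈ Uu a u := subset_closure (Or.inr rfl)

theorem mem_U (H : Rel D3 a) {u : Fin 9 → ZMod 3} {z : G} :
    z ∈ Uu a u ↔ ∃ b c : ZMod 3, z = bf D3 a (b • u + Pi.single D3.l c) := by
  constructor
  · intro hz
    have key : ∀ b c b' c' : ZMod 3, (b • u + Pi.single D3.l c) ⬝ᵥ D3.Bm *ᵥ (b' • u + Pi.single D3.l c') = 0 := by
      intro b c b' c'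
      rw [mulVec_add, dotProduct_add, (H.ok.Bm_l _ _).1, add_zero, add_dotProduct, (H.ok.Bm_l _ _).2, add_zero,
        mulVec_smul, dotProduct_smul, smul_dotProduct, Bm_self, smul_zero, smul_zero]
    induction hz using closure_induction with
    | mem x hx =>
      rcases hx with rfl | rfl
      · exact ⟨0, 1, by rw [zero_smul, zero_add, H.bf_l, pw_one]⟩
      · exact ⟨1, 0, by rw [one_smul, Pi.single_zero, add_zero]⟩
    | one => exact ⟨0, 0, by rw [zero_smul, Pi.single_zero, add_zero, bf_zero]⟩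
    | mul x z _ _ hx hz =>
      obtain ⟨b, c, rfl⟩ := hx
      obtain ⟨b', c', rfl⟩ := hz
      refine ⟨b + b', c + c', ?_⟩
      rw [H.bf_mul, key, mul_zero, Pi.single_zero, add_zero, add_smul, Pi.single_add, add_add_add_comm]
    | inv x _ hx =>
      obtain ⟨b, c, rfl⟩ := hx
      exact ⟨-b, -c, by rw [← H.bf_neg, neg_add, neg_smul, Pi.single_neg]⟩
  · rintro ⟨b, c, rfl⟩
    rw [H.bf_add_l, ← ZMod.natCast_zmod_val b, ← bf_pow H]
    exact mul_mem (pow_mem (x_mem u) _) (pow_mem (y_mem u) _)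

theorem mem_zp (H : Rel D3 a) {v : Fin 9 → ZMod 3} : bf D3 a v ∈ zpowers (a D3.l) ↔ cls v = 0 := by
  rw [cls_zero]
  constructor
  · intro h i hi
    obtain ⟨k, hk⟩ := mem_powers_iff_mem_zpowers.2 h
    have h1 : bf D3 a (Pi.single D3.l (k : ZMod 3)) = bf D3 a v := by
      rw [H.bf_l]
      show a D3.l ^ (k : ZMod 3).val = _
      rw [ZMod.val_natCast, ← pow_eq_pow_mod _ (H.pow _)]
      exact hk
    rw [← H.bf_inj h1]
    exact sg_ne hi _
  · intro h
    have h1 : v = Pi.single D3.l (v 8) := by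
      funext i
      by_cases hi : i = 8
      · rw [hi, sg_eq]
      · rw [h i hi, sg_ne hi]
    rw [h1, H.bf_l]
    exact pow_mem (mem_zpowers _) _

theorem exists_ne {u : Fin 9 → ZMod 3} (hu : cls u ≠ 0) : ∃ i, i ≠ 8 ∧ u i ≠ 0 := by
  by_contra h
  exact hu (cls_zero.2 fun i hi => by_contra fun h1 => h ⟨i, hi, h1⟩)

theorem card_U (H : Rel D3 a) {u : Fin 9 → ZMod 3} (hu : cls u ≠ 0) : Nat.card (Uu a u) = 9 := by
  obtain ⟨i, hi, h1⟩ := exists_ne hu
  have h2 : Function.Injective fun p : ZMod 3 × ZMod 3 => bf D3 a (p.1 • u + Pi.single D3.l p.2) := by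
    rintro ⟨b, c⟩ ⟨b', c'⟩ h
    have h3 := H.bf_inj h
    have h4 := congrFun h3 i
    simp only [Pi.add_apply, Pi.smul_apply, smul_eq_mul, sg_ne hi, add_zero] at h4
    have h6 : ∀ b b' x : ZMod 3, x ≠ 0 → b * x = b' * x → b = b' := by decide
    obtain rfl := h6 _ _ _ h1 h4
    have h7 := congrFun (add_left_cancel h3) D3.l
    rw [Pi.single_eq_same, Pi.single_eq_same] at h7
    exact Prod.ext rfl h7
  have h3 : ((Uu a u : Subgroup G) : Set G) = Set.range fun p : ZMod 3 × ZMod 3 => bf D3 a (p.1 • u + Pi.single D3.l p.2) := by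
    ext z
    rw [SetLike.mem_coe, mem_U H]
    exact ⟨fun ⟨b, c, h⟩ => ⟨(b, c), h.symm⟩, fun ⟨p, h⟩ => ⟨p.1, p.2, h.symm⟩⟩
  have h4 : Nat.card (Uu a u) = Nat.card ((Uu a u : Subgroup G) : Set G) := rfl
  rw [h4, h3, Nat.card_range_of_injective h2, Nat.card_prod, Nat.card_zmod]

theorem adj (H : Rel D3 a) {u : Fin 9 → ZMod 3} (hu : cls u ≠ 0) (c : ZMod 3) : ∃ w, u ⬝ᵥ D3.Bm *ᵥ w = c := by
  obtain ⟨j, hj, h1⟩ := exists_ne hu
  refine ⟨D3.R *ᵥ Pi.single j (u j * c), ?_⟩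
  have h2 : ∀ x c : ZMod 3, x ≠ 0 → x * (1 * (x * c)) = c := by decide
  rw [mulVec_mulVec, dotProduct, Finset.sum_eq_single j]
  · rw [mulVec, dotProduct_single, H.ok.2.2.2, if_pos ⟨rfl, hj⟩, h2 _ _ h1]
  · intro i _ hi
    rw [mulVec, dotProduct_single, H.ok.2.2.2, if_neg (fun e => hi e.1), zero_mul, mul_zero]
  · intro e
    exact absurd (Finset.mem_univ _) e

/-- conjugacy under the centraliser of `y` -/
def Rl (a : Fin 9 → G) (v w : Fin 9 → ZMod 3) : Prop :=
  ∃ s ∈ centralizer ({a D3.l} : Set G), s⁻¹ * bf D3 a v * s = bf D3 a w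

theorem Rl.symm {v w : Fin 9 → ZMod 3} (h : Rl a v w) : Rl a w v := by
  obtain ⟨s, hs, h⟩ := h
  exact ⟨s⁻¹, inv_mem hs, by rw [← h]; group⟩

theorem Rl.trans {u v w : Fin 9 → ZMod 3} (h : Rl a u v) (h' : Rl a v w) : Rl a u w := by
  obtain ⟨s, hs, h⟩ := h
  obtain ⟨t, ht, h'⟩ := h'
  exact ⟨s * t, mul_mem hs ht, by rw [← h', ← h]; group⟩

theorem rl_top (H : Rel D3 a) {v w : Fin 9 → ZMod 3} (hv : cls v ≠ 0) (h : ∀ i, i ≠ 8 → v i = w i) : Rl a v w := by
  obtain ⟨q, hq⟩ := adj H hv (w 8 - v 8)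
  refine ⟨bf D3 a q, QQ_le_cent H (bf_mem_QQ H q), ?_⟩
  rw [H.bf_conj, hq]
  congr 1
  funext i
  by_cases hi : i = 8
  · rw [hi, Pi.add_apply, sg_eq, add_sub_cancel]
  · rw [Pi.add_apply, sg_ne hi, add_zero, h i hi]

theorem rl_gen (h : BF D3 a gen M3) (v : Fin 9 → ZMod 3) {i : Fin 18} (hi : i ≠ 17) : Rl a v (v ᵥ* M3 i) := by
  refine ⟨gen i, mem_cent ?_, h.act i v⟩
  have h1 := h.act i (Pi.single D3.l 1)
  have h2 : ∀ (i : Fin 18) (j : Fin 9), M3 i 8 j = (if j = 8 then 1 else 0) ∨ i = 17 := by decide +kernel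
  have h3 : (Pi.single D3.l 1 : Fin 9 → ZMod 3) ᵥ* M3 i = Pi.single D3.l 1 := by
    funext j
    rw [single_one_vecMul, Pi.single_apply]
    exact (h2 i j).resolve_right hi
  rwa [h3, h.rel.bf_l, pw_one] at h1

theorem rl_of_cls (h : BF D3 a gen M3) {v w : Fin 9 → ZMod 3} (hv : cls v ≠ 0) (e : cls v = cls w) : Rl a v w := by
  have key : ∀ v, ∃ v', Rl a v v' ∧ cls v' = cls v ∧ code v' = base (cls v) := by
    refine descent (fun v hv => ⟨v, ⟨1, one_mem _, by group⟩, rfl, hv⟩) fun v i hi ⟨v', h1, h2, h3⟩ => ?_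
    rw [cls_gen] at h2 h3
    exact ⟨v', (rl_gen h v hi).trans h1, h2, h3⟩
  obtain ⟨v', h1, h2, h3⟩ := key v
  obtain ⟨w', h4, -, h5⟩ := key w
  exact (h1.trans (rl_top h.rel (h2 ▸ hv) (code_inj (by rw [h3, h5, e])))).trans h4.symm

theorem cls_of_conj (h : BF D3 a gen M3) {s : G} (hs : s ∈ Nm (a D3.l)) {v w : Fin 9 → ZMod 3}
    (e : s⁻¹ * bf D3 a v * s = bf D3 a w) : cls w = cls v := by
  obtain ⟨X, hX⟩ := h.exists_act hs
  have h1 : ∀ v, cls (v ᵥ* X) = cls v :=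
    h.induct (P := fun X => ∀ v, cls (v ᵥ* X) = cls v) (fun v => by rw [vecMul_one]) cls_gen
      (fun X Y hX hY v => by rw [← vecMul_vecMul, hY, hX]) hs hX
  rw [← h.rel.bf_inj ((hX v).symm.trans e), h1]

/-- the centraliser of `U` -/
theorem card_CC (h : BF D3 a gen M3) {u : Fin 9 → ZMod 3} (hu : cls u ≠ 0) :
    Nat.card (centralizer ({a D3.l} : Set G)) = Nat.card {v : Fin 9 → ZMod 3 // cls v = cls u} *
      Nat.card (centralizer ({a D3.l} : Set G) ⊓ centralizer ({bf D3 a u} : Set G) : Subgroup G) := by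
  have h1 : {z : G | ∃ s ∈ centralizer ({a D3.l} : Set G), s⁻¹ * bf D3 a u * s = z} = bf D3 a '' {v | cls v = cls u} := by
    ext z
    constructor
    · rintro ⟨s, hs, rfl⟩
      obtain ⟨X, hX⟩ := h.exists_act (cent_le_Nm _ hs)
      exact ⟨_, cls_of_conj h (cent_le_Nm _ hs) (hX u), (hX u).symm⟩
    · rintro ⟨v, hv, rfl⟩
      exact rl_of_cls h hu (Eq.symm hv)
  rw [card_orbit _ (bf D3 a u), h1, Set.ncard_image_of_injective _ h.rel.bf_inj, ← Nat.card_coe_set_eq]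
  rfl

theorem card_zp (H : Rel D3 a) : Nat.card (zpowers (a D3.l)) = 3 := by rw [Nat.card_zpowers, order_y H]

/-- the elements of `U` outside `⟨y⟩` are conjugate to `bf u` -/
theorem trans_U (h : BF D3 a gen M3) {u : Fin 9 → ZMod 3} (hu : cls u ≠ 0) {z : G} (hz : z ∈ Uu a u)
    (hz' : z ∉ zpowers (a D3.l)) :
    ∃ s ∈ (normalizer ((Uu a u : Subgroup G) : Set G) ⊓ centralizer ({a D3.l} : Set G) : Subgroup G),
      s⁻¹ * bf D3 a u * s = z := by
  obtain ⟨b, c, rfl⟩ := (mem_U h.rel).1 hz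
  have h0 : ∀ i, i ≠ 8 → (b • u + Pi.single D3.l c : Fin 9 → ZMod 3) i = b * u i := fun i hi => by
    rw [Pi.add_apply, sg_ne hi, add_zero]
    rfl
  have h1 : Rl a u (b • u + Pi.single D3.l c) := by
    have h2 : ∀ b : ZMod 3, b = 0 ∨ b = 1 ∨ b = 2 := by decide
    rcases h2 b with rfl | rfl | rfl
    · exact absurd ((mem_zp h.rel).2 (cls_zero.2 fun i hi => by rw [h0 i hi, zero_mul])) hz'
    · exact rl_top h.rel hu fun i hi => by rw [h0 i hi, one_mul]
    · refine (rl_gen h u (i := 8) (by decide)).trans (rl_top h.rel (by rwa [cls_gen]) fun i hi => ?_)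
      have h3 : ∀ i j : Fin 9, M3 8 j i = (if j = i then 2 else 0) ∨ i = 8 := by decide +kernel
      rw [h0 i hi]
      show ∑ j, u j * M3 8 j i = _
      simp only [fun j => (h3 i j).resolve_right hi, mul_ite, mul_zero, Finset.sum_ite_eq', Finset.mem_univ, if_true]
      exact mul_comm _ _
  obtain ⟨s, hs, h2⟩ := h1
  exact ⟨s, ⟨norm_of (by rw [conj_y hs]; exact y_mem u) (by rw [h2]; exact hz), hs⟩, h2⟩

/-- the centraliser of `y` in the normaliser of `U` -/
theorem card_K (h : BF D3 a gen M3) {u : Fin 9 → ZMod 3} (hu : cls u ≠ 0) :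
    Nat.card (normalizer ((Uu a u : Subgroup G) : Set G) ⊓ centralizer ({a D3.l} : Set G) : Subgroup G) =
      6 * Nat.card (centralizer ({a D3.l} : Set G) ⊓ centralizer ({bf D3 a u} : Set G) : Subgroup G) := by
  have h1 : {z : G | ∃ s ∈ (normalizer ((Uu a u : Subgroup G) : Set G) ⊓ centralizer ({a D3.l} : Set G) : Subgroup G),
      s⁻¹ * bf D3 a u * s = z} = (Uu a u : Set G) \ zpowers (a D3.l) := by
    ext z
    constructor
    · rintro ⟨s, hs, rfl⟩
      refine ⟨conj_mem hs.1 (x_mem u), fun h2 => hu ((mem_zp h.rel).1 ?_)⟩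
      have h3 := conj_mem (inv_mem (cent_le_Nm _ hs.2)) h2
      rwa [show s⁻¹⁻¹ * (s⁻¹ * bf D3 a u * s) * s⁻¹ = bf D3 a u by group] at h3
    · exact fun hz => trans_U h hu hz.1 hz.2
  have h2 : (normalizer ((Uu a u : Subgroup G) : Set G) ⊓ centralizer ({a D3.l} : Set G)) ⊓
      centralizer ({bf D3 a u} : Set G) = centralizer ({a D3.l} : Set G) ⊓ centralizer ({bf D3 a u} : Set G) := by
    refine le_antisymm (inf_le_inf_right _ inf_le_right) fun s hs => ⟨⟨?_, hs.1⟩, hs.2⟩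
    exact norm_of (by rw [conj_y hs.1]; exact y_mem u) (by rw [conj_y hs.2]; exact x_mem u)
  have h3 : ((zpowers (a D3.l) : Subgroup G) : Set G) ⊆ Uu a u := zpowers_le.2 (y_mem u)
  rw [card_orbit _ (bf D3 a u), h1, h2, Set.ncard_sdiff h3, ← Nat.card_coe_set_eq, ← Nat.card_coe_set_eq]
  rw [show Nat.card ((Uu a u : Subgroup G) : Set G) = 9 from card_U h.rel hu,
    show Nat.card ((zpowers (a D3.l) : Subgroup G) : Set G) = 3 from card_zp h.rel]

/-- all elements of `U` other than the identity are conjugate to `y` -/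
theorem pure_U (h : BF D3 a gen M3) {u : Fin 9 → ZMod 3} (hu : cls u ≠ 0) {t : G}
    (ht : t ∈ normalizer ((Uu a u : Subgroup G) : Set G)) (ht' : t⁻¹ * a D3.l * t ∉ zpowers (a D3.l)) {z : G}
    (hz : z ∈ Uu a u) (hz1 : z ≠ 1) : ∃ s ∈ normalizer ((Uu a u : Subgroup G) : Set G), s⁻¹ * a D3.l * s = z := by
  obtain ⟨s, hs, h1⟩ := trans_U h hu (conj_mem ht (y_mem u)) ht'
  have key : ∀ z ∈ Uu a u, z ∉ zpowers (a D3.l) →
      ∃ s ∈ normalizer ((Uu a u : Subgroup G) : Set G), s⁻¹ * a D3.l * s = z := by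
    intro z hz hz'
    obtain ⟨r, hr, h2⟩ := trans_U h hu hz hz'
    refine ⟨t * s⁻¹ * r, mul_mem (mul_mem ht (inv_mem hs.1)) hr.1, ?_⟩
    calc _ = r⁻¹ * (s * (t⁻¹ * a D3.l * t) * s⁻¹) * r := by group
      _ = z := by rw [← h1, ← h2]; group
  by_cases hz' : z ∈ zpowers (a D3.l)
  · obtain ⟨k, hk⟩ := mem_powers_iff_mem_zpowers.2 hz'
    have hk' : a D3.l ^ (k % 3) = z := by rw [← pow_eq_pow_mod k (h.rel.pow _)]; exact hk
    have h3 : k % 3 = 0 ∨ k % 3 = 1 ∨ k % 3 = 2 := by omega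
    rcases h3 with h3 | h3 | h3 <;> rw [h3] at hk'
    · exact absurd (by rw [← hk', pow_zero]) hz1
    · exact ⟨1, one_mem _, by rw [← hk']; group⟩
    · obtain ⟨r, hr, h2⟩ := key _ (inv_mem (conj_mem ht (y_mem u))) (fun h4 => ht' (by simpa using inv_mem h4))
      refine ⟨r * t⁻¹, mul_mem hr (inv_mem ht), ?_⟩
      have h4 : (a D3.l)⁻¹ = a D3.l ^ 2 := by rw [inv_eq_iff_mul_eq_one, ← pow_succ', h.rel.pow]
      calc _ = t * (r⁻¹ * a D3.l * r) * t⁻¹ := by group
        _ = (a D3.l)⁻¹ := by rw [h2]; group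
        _ = z := by rw [h4, hk']
  · exact key z hz hz'

/-- **the order of the normaliser** -/
theorem card_one (h : BF D3 a gen M3) (hC : Nat.card (centralizer ({a D3.l} : Set G)) = 65303470080)
    {u : Fin 9 → ZMod 3} (hu : cls u = 1) {t : G} (ht : t ∈ normalizer ((Uu a u : Subgroup G) : Set G))
    (ht' : t⁻¹ * a D3.l * t ∉ zpowers (a D3.l)) :
    Nat.card (normalizer ((Uu a u : Subgroup G) : Set G)) = 3 ^ 13 * 2 ^ 7 := by
  have hu0 : cls u ≠ 0 := by omega
  have h1 : {z : G | ∃ s ∈ normalizer ((Uu a u : Subgroup G) : Set G), s⁻¹ * a D3.l * s = z} = (Uu a u : Set G) \ {1} := by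
    ext z
    constructor
    · rintro ⟨s, hs, rfl⟩
      refine ⟨conj_mem hs (y_mem u), fun h2 => h.rel.ne ?_⟩
      calc a D3.l = s * (s⁻¹ * a D3.l * s) * s⁻¹ := by group
        _ = 1 := by rw [show s⁻¹ * a D3.l * s = 1 from h2]; group
    · exact fun hz => pure_U h hu0 ht ht' hz.1 hz.2
  have h2 := card_CC h hu0
  rw [hC, hu, card1] at h2
  rw [card_orbit _ (a D3.l), h1, card_K h hu0, Set.ncard_sdiff (Set.singleton_subset_iff.2 (one_mem (Uu a u))),
    Set.ncard_singleton, ← Nat.card_coe_set_eq, show Nat.card ((Uu a u : Subgroup G) : Set G) = 9 from card_U h.rel hu0]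
  omega

end Cfsg.Agent.BX.N17.Ord

private theorem eqs_bx17_orda : _root_.True := by
  try have : _root_.True := by simp only [_root_.Cfsg.Agent.BX.N17.Ord.Uu.eq_1]
  try have : _root_.True := by simp only [_root_.Cfsg.Agent.BX.N17.Ord.Rl.eq_1]
  exact _root_.True.intro
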