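import Cfsg.Agent.BX.N17.Base
import Cfsg.Agent.BX.N17.OrdA
set_option linter.all false
open scoped Cfsg.Agent.FastGrp

/-!
# The order of the normaliser of `U` (helper17)

* `card_UU`, `pure_UU` : `U` has order nine, its elements other than the identity are conjugate to `y`;
* `card_norm` : `|N(U)| = 3 ^ 13 * 2 ^ 7`.
-/

set_option autoImplicit false
set_option maxRecDepth 100000

namespace Cfsg.Agent.BX.N17

open Subgroup Cfsg.Agent.BX.Frame Cfsg.Agent.BX.Frame.Baer Cfsg.Agent.BX.Frame.Fr3 Cfsg.Agent.BX.N17.Orb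
open Cfsg.Agent.H819.U33 (G g)
open Cfsg.Agent.H863.U33 (wy1)

attribute [local instance] Cfsg.Agent.BX.Frame.Fr3.fact3

theorem cls_u0 : cls u0 = 1 := by decide +kernel

theorem UU_eq : UU = Ord.Uu a3 u0 := by
  unfold UU Ord.Uu
  rw [a3_l, u_eq]

theorem t_norm : g wT ∈ normalizer ((Ord.Uu a3 u0 : Subgroup G) : Set G) := by
  have := finG
  refine Ord.norm_of ?_ ?_
  · rw [a3_l, t_y, u_eq]
    exact subset_closure (Or.inr rfl)
  · rw [← u_eq, t_u, a3_l]
    exact subset_closure (Or.inl rfl)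

theorem t_moves : (g wT)⁻¹ * a3 D3.l * g wT ∉ zpowers (a3 D3.l) := by
  have := finG
  have e : (g wT)⁻¹ * a3 D3.l * g wT = bf D3 a3 u0 := by rw [a3_l, t_y, u_eq]
  rw [e, Ord.mem_zp rel3, cls_u0]
  exact one_ne_zero

theorem card_C3 (h3 : H3) : Nat.card (centralizer ({a3 D3.l} : Set G)) = 65303470080 := by
  rw [a3_l]
  exact card_C h3

/-- `U` has order nine -/
theorem card_UU : Nat.card UU = 9 := by
  have := finG
  rw [UU_eq]
  exact Ord.card_U rel3 (by rw [cls_u0]; exact one_ne_zero)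

/-- `U` is 3B-pure: its elements other than the identity are conjugate to `y` (even inside `N(U)`) -/
theorem pure_UU (h3 : H3) {z : G} (hz : z ∈ UU) (h1 : z ≠ 1) :
    ∃ s ∈ normalizer ((UU : Subgroup G) : Set G), s⁻¹ * g wy1 * s = z := by
  have := finG
  rw [UU_eq] at hz ⊢
  rw [← a3_l]
  exact Ord.pure_U (bf3 h3) (by rw [cls_u0]; exact one_ne_zero) t_norm t_moves hz h1

/-- **the order of `N(U)`** -/
theorem card_norm (h3 : H3) : Nat.card (normalizer ((UU : Subgroup G) : Set G)) = 3 ^ 13 * 2 ^ 7 := by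
  have := finG
  rw [UU_eq]
  exact Ord.card_one (bf3 h3) (card_C3 h3) cls_u0 t_norm t_moves

end Cfsg.Agent.BX.N17
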