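import Cfsg.Agent.BX.N17.Final
import Cfsg.Agent.BX.N17.Ord
set_option linter.all false

/-!
# The normaliser `N(3²)` of order `3 ^ 13 * 2 ^ 7` in the Baby Monster (helper17)

* `exists_nine` : there is a subgroup of order nine whose normaliser has order `3 ^ 13 * 2 ^ 7`;
* `card_normalizer` : every subgroup of order nine whose normaliser has order divisible by `3 ^ 13` has a normaliser of
  this order;
* `trans_nine`, `conj_nine` : this normaliser is transitive on the elements other than the identity, and all such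
  subgroups are conjugate.

By `not_maximal` this normaliser is not a maximal subgroup.
-/

set_option autoImplicit false

namespace Cfsg.Agent.BX.N17

open Subgroup

section Transfer

variable {A B : Type*} [Group A] [Group B]

theorem card_map_equiv (f : A ≃* B) (E : Subgroup A) : Nat.card (E.map f.toMonoidHom) = Nat.card E :=
  card_map_of_injective (f := f.toMonoidHom) f.injective

theorem card_norm_equiv (f : A ≃* B) (E : Subgroup A) :
    Nat.card (normalizer ((E.map f.toMonoidHom : Subgroup B) : Set B)) = Nat.card (normalizer (E : Set A)) := by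
  rw [← map_equiv_normalizer_eq, card_map_equiv]

theorem map_symm_map (f : A ≃* B) (E : Subgroup A) : (E.map f.toMonoidHom).map f.symm.toMonoidHom = E := by
  rw [map_map]
  convert map_id E
  ext x
  exact f.symm_apply_apply x

end Transfer

/-- an isomorphism which carries `E` to `U` -/
theorem exists_equiv (E : Subgroup Spor.BabyMonster) (h9 : Nat.card E = 9)
    (h13 : 3 ^ 13 ∣ Nat.card (normalizer (E : Set Spor.BabyMonster))) :
    ∃ x : H819.U33.G, E.map (isoG.trans (MulAut.conj x)).toMonoidHom = UU := by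
  obtain ⟨x, hx⟩ := conj_UU Frame.Fr3.h3 (E := E.map isoG.toMonoidHom) ((card_map_equiv isoG E).trans h9)
    (by rw [card_norm_equiv]; exact h13)
  exact ⟨x, by rw [← hx, map_map]; rfl⟩

/-- **The order of the normaliser.** -/
theorem card_normalizer (E : Subgroup Spor.BabyMonster) (h9 : Nat.card E = 9)
    (h13 : 3 ^ 13 ∣ Nat.card (normalizer (E : Set Spor.BabyMonster))) :
    Nat.card (normalizer (E : Set Spor.BabyMonster)) = 3 ^ 13 * 2 ^ 7 := by
  obtain ⟨x, hx⟩ := exists_equiv E h9 h13
  rw [← card_norm_equiv (isoG.trans (MulAut.conj x)), hx]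
  exact card_norm Frame.Fr3.h3

/-- the normaliser is transitive on the elements other than the identity -/
theorem trans_nine (E : Subgroup Spor.BabyMonster) (h9 : Nat.card E = 9)
    (h13 : 3 ^ 13 ∣ Nat.card (normalizer (E : Set Spor.BabyMonster))) {z w : Spor.BabyMonster} (hz : z ∈ E) (hz1 : z ≠ 1)
    (hw : w ∈ E) (hw1 : w ≠ 1) : ∃ s ∈ normalizer (E : Set Spor.BabyMonster), s⁻¹ * z * s = w := by
  obtain ⟨x, hx⟩ := exists_equiv E h9 h13
  generalize isoG.trans (MulAut.conj x) = f at hx
  obtain ⟨s, hs, h1⟩ := pure_UU Frame.Fr3.h3 (z := f z) (hx ▸ mem_map_of_mem f.toMonoidHom hz)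
    (fun h => hz1 (f.map_eq_one_iff.1 h))
  obtain ⟨t, ht, h2⟩ := pure_UU Frame.Fr3.h3 (z := f w) (hx ▸ mem_map_of_mem f.toMonoidHom hw)
    (fun h => hw1 (f.map_eq_one_iff.1 h))
  have h3 := mul_mem (inv_mem hs) ht
  rw [← hx, ← map_equiv_normalizer_eq] at h3
  obtain ⟨r, hr, h4⟩ := h3
  refine ⟨r, hr, f.injective ?_⟩
  have h5 : f r = s⁻¹ * t := h4
  rw [map_mul, map_mul, map_inv, h5, ← h1, ← h2]
  group

/-- all such subgroups are conjugate -/
theorem conj_nine (E F : Subgroup Spor.BabyMonster) (hE : Nat.card E = 9)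
    (hE' : 3 ^ 13 ∣ Nat.card (normalizer (E : Set Spor.BabyMonster))) (hF : Nat.card F = 9)
    (hF' : 3 ^ 13 ∣ Nat.card (normalizer (F : Set Spor.BabyMonster))) :
    ∃ x : Spor.BabyMonster, E.map (MulAut.conj x).toMonoidHom = F := by
  obtain ⟨x, hx⟩ := exists_equiv E hE hE'
  obtain ⟨y, hy⟩ := exists_equiv F hF hF'
  refine ⟨isoG.symm (y⁻¹ * x), ?_⟩
  rw [← map_symm_map (isoG.trans (MulAut.conj y)) F, hy, ← hx, map_map]
  congr 1
  refine MonoidHom.ext fun z => ?_
  apply (isoG.trans (MulAut.conj y)).injective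
  show y * isoG (isoG.symm (y⁻¹ * x) * z * (isoG.symm (y⁻¹ * x))⁻¹) * y⁻¹ =
    (isoG.trans (MulAut.conj y)) ((isoG.trans (MulAut.conj y)).symm (x * isoG z * x⁻¹))
  rw [MulEquiv.apply_symm_apply, map_mul, map_mul, map_inv, MulEquiv.apply_symm_apply]
  group

/-- **The subgroup `N(3²)` exists, has order `3 ^ 13 * 2 ^ 7`, and is not maximal.** -/
theorem exists_nine : ∃ E : Subgroup Spor.BabyMonster, Nat.card E = 9 ∧
    Nat.card (normalizer (E : Set Spor.BabyMonster)) = 3 ^ 13 * 2 ^ 7 ∧
    ¬ IsCoatom (normalizer (E : Set Spor.BabyMonster)) := by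
  have h1 : Nat.card (UU.map isoG.symm.toMonoidHom) = 9 := (card_map_equiv _ _).trans card_UU
  have h2 := (card_norm_equiv isoG.symm UU).trans (card_norm Frame.Fr3.h3)
  exact ⟨_, h1, h2, not_maximal _ h1 (h2 ▸ dvd_mul_right _ _)⟩

end Cfsg.Agent.BX.N17
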